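import Cfsg.Agent.SuzOut.Checks
import Mathlib.GroupTheory.Sylow

/-!
An automorphism of Suz fixing the chosen elements of orders eleven and ten is determined up to two
possibilities.
-/

set_option autoImplicit false
set_option maxRecDepth 100000

namespace CfsgLib.SuzOut

open CfsgLib.CosetEnum CfsgLib.CosetEnum.Suz

theorem el_ev (f : ℕ → List ℕ) (R : List ℕ) :
    el (ev f R) = (R.map fun i => el (f i)).prod := by
  induction R with
  | nil => simpa [ev] using el_nil
  | cons i R ih =>
    have e : ev f (i :: R) = ev f R ++ f i := by simp [ev]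
    rw [e, el_append, ih, List.map_cons, List.prod_cons]

theorem el_pw (n : ℕ) (w : List ℕ) : el (pw n w) = el w ^ n := by
  induction n with
  | zero => simpa [pw] using el_nil
  | succ n ih =>
    have e : pw (n + 1) w = w ++ pw n w := by simp [pw, List.replicate_succ]
    rw [e, el_append, ih, pow_succ]

theorem smallW_flatten {L : List (List ℕ)} (h : ∀ w ∈ L, smallW w = true) :
    smallW L.flatten = true := by
  induction L with
  | nil => rfl
  | cons w L ih =>
    rw [List.flatten_cons]
    exact smallW_append (h w List.mem_cons_self) (ih fun v hv => h v (List.mem_cons_of_mem _ hv))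

theorem smallW_ev {f : ℕ → List ℕ} (hf : ∀ i, smallW (f i) = true) (R : List ℕ) :
    smallW (ev f R) = true :=
  smallW_flatten fun w hw => by
    obtain ⟨i, -, rfl⟩ := List.mem_map.1 hw
    exact hf i

theorem smallW_pw {w : List ℕ} (hw : smallW w = true) (n : ℕ) : smallW (pw n w) = true :=
  smallW_flatten fun v hv => (List.eq_of_mem_replicate hv) ▸ hw

theorem smallW_back {g V : List ℕ} (hg : smallW g = true) (hV : smallW V = true) :
    smallW (back g V) = true :=
  smallW_append (smallW_append (smallW_reverse hg) hV) hg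

theorem el_back (g V : List ℕ) : el (back g V) = el g * el V * (el g)⁻¹ := by
  rw [back, el_append, el_append, el_reverse, mul_assoc]

theorem small_getD {L : List (List ℕ)} (h : ∀ w ∈ L, smallW w = true) (i : ℕ) :
    smallW (L.getD i []) = true := by
  rcases Nat.lt_or_ge i L.length with hi | hi
  · rw [List.getD_eq_getElem _ _ hi]
    exact h _ (List.getElem_mem hi)
  · rw [List.getD_eq_default _ _ hi]; rfl

theorem small_words : smallW Data.yw = true ∧ smallW Data.kw = true ∧ smallW Data.z1w = true ∧
    smallW Data.zw = true ∧ smallW Data.zpw = true ∧ smallW Data.yConj = true ∧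
    smallW Data.kConj = true ∧ smallW Data.uConj = true ∧ smallW Data.yFrame = true ∧
    smallW Data.kFrame = true ∧ smallW Data.uFrame = true ∧ smallW uw = true ∧
    ∀ x < 7, smallW (img x) = true := by
  have h := small_all
  simp only [List.all_cons, List.all_nil, Bool.and_true, Bool.and_eq_true, Model.allBelow_iff] at h
  obtain ⟨⟨⟨h1, h2, h3, h4, h5, h6, h7, h8, h9, h10, h11⟩, h12⟩, -⟩ := h
  exact ⟨h1, h2, h3, h4, h5, h6, h7, h8, h9, h10, h11,
    smallW_append (smallW_reverse h1) h3, h12⟩

theorem small_fK {c : List ℕ} (hc : smallW c = true) (i : ℕ) : smallW (fK c i) = true :=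
  small_getD (fun w hw => by
    simp only [List.mem_cons, List.not_mem_nil, or_false] at hw
    rcases hw with rfl | rfl | rfl
    · exact small_words.1
    · exact small_words.2.1
    · exact hc) i

theorem small_fU {c : List ℕ} (hc : smallW c = true) (i : ℕ) : smallW (fU c i) = true :=
  small_getD (fun w hw => by
    simp only [List.mem_cons, List.not_mem_nil, or_false] at hw
    rcases hw with rfl | rfl | rfl | rfl
    · exact small_words.1
    · exact small_words.2.1
    · exact small_words.2.2.1
    · exact hc) i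

theorem small_fG {c : List ℕ} (hc : smallW c = true) (i : ℕ) : smallW (fG c i) = true :=
  small_getD (fun w hw => by
    simp only [List.mem_cons, List.not_mem_nil, or_false] at hw
    rcases hw with rfl | rfl | rfl | rfl | rfl | rfl | rfl
    · exact small_words.1
    · exact smallW_reverse small_words.1
    · exact small_words.2.1
    · exact smallW_reverse small_words.2.1
    · exact small_words.2.2.1
    · exact hc
    · exact smallW_reverse hc) i

/-- the element of order eleven -/
noncomputable def yE : Cfsg.Spor.Suz := el Data.yw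
/-- the element of order ten -/
noncomputable def kE : Cfsg.Spor.Suz := el Data.kw
/-- the involution commuting with `kE` -/
noncomputable def z1E : Cfsg.Spor.Suz := el Data.z1w
/-- the element of order three -/
noncomputable def zE : Cfsg.Spor.Suz := el Data.zw
/-- its image -/
noncomputable def zpE : Cfsg.Spor.Suz := el Data.zpw
/-- the element of order twelve -/
noncomputable def uE : Cfsg.Spor.Suz := el uw

theorem uE_eq : uE = z1E * yE⁻¹ := by
  rw [uE, uw, el_append, el_reverse]; rfl

theorem commute_of_check {v w : List ℕ} (hv : smallW v = true) (hw : smallW w = true)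
    (h : eqB (v ++ w) (w ++ v) = true) : Commute (el v) (el w) := by
  have := (eqB_iff (smallW_append hv hw) (smallW_append hw hv)).1 h
  rw [el_append, el_append] at this
  exact this.symm

theorem commute_z1_k : Commute z1E kE :=
  commute_of_check small_words.2.2.1 small_words.2.1 commute_checks.1

theorem commute_z_u : Commute zE uE :=
  commute_of_check small_words.2.2.2.1 small_words.2.2.2.2.2.2.2.2.2.2.2.1 commute_checks.2.1

/-- everything commuting with a word lies in the list of its frame, moved back -/
theorem centralizer_list {w g hh : List ℕ} {L : List (List ℕ)}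
    {spec : List (Option (ℕ × ℕ))} (hw : smallW w = true) (hg : smallW g = true)
    (hhs : smallW hh = true) (hlen : spec.length = 6) (hframe : eqB (hh ++ g) (g ++ w) = true)
    (hok : searchOK hh L spec 0 [] = true) {x : Cfsg.Spor.Suz} (hx : Commute x (el w)) :
    ∃ i < L.length, x = el (back g (L.getD i [])) := by
  have e := (eqB_iff (smallW_append hhs hg) (smallW_append hg hw)).1 hframe
  rw [el_append, el_append] at e
  have he : el hh = (el g)⁻¹ * el w * el g := by rw [mul_assoc, ← e]; group
  have hc : Commute ((el g)⁻¹ * x * el g) (el hh) := by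
    rw [he]
    calc (el g)⁻¹ * x * el g * ((el g)⁻¹ * el w * el g) = (el g)⁻¹ * (x * el w) * el g := by group
      _ = (el g)⁻¹ * (el w * x) * el g := by rw [hx.eq]
      _ = (el g)⁻¹ * el w * el g * ((el g)⁻¹ * x * el g) := by group
  obtain ⟨V, hV, hVe⟩ := mem_of_commute hlen hhs hok hc
  obtain ⟨i, hi, rfl⟩ := List.mem_iff_getElem.1 hV
  refine ⟨i, hi, ?_⟩
  rw [el_back, List.getD_eq_getElem _ _ hi, ← hVe]
  group

theorem y_pow_eleven : yE ^ 11 = 1 := by
  rw [yE, ← el_pw, (eqB_iff (smallW_pw small_words.1 11) rfl).1 y_facts.1, el_nil]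

theorem y_ne_one : yE ≠ 1 := by
  intro h
  have := (eqB_iff small_words.1 (w := []) rfl).2 (by rw [el_nil]; exact h)
  rw [y_facts.2.1] at this
  exact Bool.noConfusion this

theorem orderOf_yE : orderOf yE = 11 :=
  haveI : Fact (Nat.Prime 11) := ⟨by norm_num⟩
  orderOf_eq_prime y_pow_eleven y_ne_one

theorem k_conj : kE * yE * kE⁻¹ = yE ^ 2 ∧ kE⁻¹ * yE * kE = yE ^ 6 := by
  obtain ⟨h1, h2, h3, -, -, -, -, -, -, -, -, -⟩ := small_words
  have e1 := (eqB_iff (smallW_append (smallW_append (smallW_reverse h2) h1) h2)
    (smallW_pw h1 2)).1 y_facts.2.2.1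
  have e2 := (eqB_iff (smallW_append (smallW_append h2 h1) (smallW_reverse h2))
    (smallW_pw h1 6)).1 y_facts.2.2.2.1
  rw [el_append, el_append, el_reverse, el_pw, ← mul_assoc] at e1 e2
  exact ⟨e1, e2⟩

theorem k_pow_conj {r : ℕ} (hr : 1 ≤ r) (hr' : r ≤ 10) :
    ∃ i : ℕ, kE ^ i * yE * (kE ^ i)⁻¹ = yE ^ r := by
  have h := (Model.allBelow_iff _ _).1 y_facts.2.2.2.2 (r - 1) (by omega)
  simp only [List.any_eq_true] at h
  obtain ⟨i, -, hi⟩ := h
  rw [show r - 1 + 1 = r by omega] at hi
  obtain ⟨h1, h2, -⟩ := small_words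
  have e := (eqB_iff (smallW_append (smallW_append (smallW_pw (smallW_reverse h2) i) h1)
    (smallW_pw h2 i)) (smallW_pw h1 r)).1 hi
  rw [el_append, el_append, el_pw, el_pw, el_pw, el_reverse, inv_pow, ← mul_assoc] at e
  exact ⟨i, e⟩

theorem centralizer_y {x : Cfsg.Spor.Suz} (hx : Commute x yE) : ∃ e : ℕ, x = yE ^ e := by
  obtain ⟨h1, -, -, -, -, h6, -, -, h9, -⟩ := small_words
  obtain ⟨i, hi, rfl⟩ := centralizer_list h1 h6 h9 frames_check.2.2.2.1 frames_check.1 search_y hx
  rw [y_list_check.2] at hi
  have h := (Model.allBelow_iff _ _).1 y_list_check.1 i hi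
  rw [Bool.and_eq_true] at h
  exact ⟨_, ((eqB_iff h.1 (smallW_pw h1 _)).1 h.2).trans (el_pw _ _)⟩

/-- the value of a product of symbols under a map fixing all symbols but one -/
theorem map_separates {f : List ℕ → ℕ → List ℕ} {ref c R : List ℕ} {o : ℕ}
    (φ : Cfsg.Spor.Suz →* Cfsg.Spor.Suz) (hsref : ∀ i, smallW (f ref i) = true)
    (hsc : ∀ i, smallW (f c i) = true) (hφ : ∀ i, φ (el (f ref i)) = el (f c i))
    (h : separates f ref c R o = true) : False := by
  unfold separates at h
  rw [Bool.and_eq_true, Bool.not_eq_true', ← Bool.not_eq_true,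
    eqB_iff (smallW_pw (smallW_ev hsref R) o) rfl, eqB_iff (smallW_pw (smallW_ev hsc R) o) rfl,
    el_nil, el_pw, el_pw, el_ev, el_ev] at h
  refine h.2 ?_
  have e := congrArg φ h.1
  rw [map_one, map_pow, map_list_prod, List.map_map] at e
  rwa [show (⇑φ ∘ fun i => el (f ref i)) = fun i => el (f c i) from funext hφ] at e

theorem z1_fixed (φ : Cfsg.Spor.Suz →* Cfsg.Spor.Suz) (hy : φ yE = yE) (hk : φ kE = kE) :
    φ z1E = z1E := by
  obtain ⟨-, h2, h3, -, -, -, h7, -, -, h10, -⟩ := small_words
  have hc : Commute (φ z1E) (el Data.kw) := by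
    have := commute_z1_k.map φ
    rwa [hk] at this
  obtain ⟨i, hi, he⟩ := centralizer_list h2 h7 h10 frames_check.2.2.2.2.1 frames_check.2.1 search_k hc
  rw [k_list_check.2] at hi
  have h := (Model.allBelow_iff _ _).1 k_list_check.1 i hi
  unfold kTest at h
  simp only [Bool.and_eq_true] at h
  obtain ⟨hsm, h⟩ := h
  cases ht : (Data.kTests.getD i ([], 0)).1.isEmpty with
  | true =>
    rw [ht] at h
    rw [he, (eqB_iff hsm h3).1 h]; rfl
  | false =>
    rw [ht] at h
    refine (map_separates φ (small_fK h3) (small_fK hsm) (fun j => ?_) h).elim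
    match j with
    | 0 => exact hy
    | 1 => exact hk
    | 2 => exact he
    | j + 3 => show φ (el []) = el []; rw [el_nil, map_one]

theorem z_image (φ : Cfsg.Spor.Suz →* Cfsg.Spor.Suz) (hy : φ yE = yE) (hk : φ kE = kE) :
    φ zE = zE ∨ φ zE = zpE := by
  obtain ⟨-, -, h3, h4, h5, -, -, h8, -, -, h11, h12, -⟩ := small_words
  have hz1 := z1_fixed φ hy hk
  have hc : Commute (φ zE) (el uw) := by
    have := commute_z_u.map φ
    rwa [uE_eq, map_mul, map_inv, hz1, hy, ← uE_eq] at this
  obtain ⟨i, hi, he⟩ := centralizer_list h12 h8 h11 frames_check.2.2.2.2.2 frames_check.2.2.1 search_u hc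
  rw [u_list_check.2] at hi
  have h := (Model.allBelow_iff _ _).1 u_list_check.1 i hi
  unfold uTest at h
  simp only [Bool.and_eq_true] at h
  obtain ⟨hsm, h⟩ := h
  cases ht : (Data.uTests.getD i ([], 0)).1.isEmpty with
  | true =>
    rw [ht] at h
    simp only [cond_true, Bool.or_eq_true] at h
    rcases h with h | h
    · left; rw [he, (eqB_iff hsm h4).1 h]; rfl
    · right; rw [he, (eqB_iff hsm h5).1 h]; rfl
  | false =>
    rw [ht] at h
    refine (map_separates φ (small_fU h4) (small_fU hsm) (fun j => ?_) h).elim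
    match j with
    | 0 => exact hy
    | 1 => exact hk
    | 2 => exact hz1
    | 3 => exact he
    | j + 4 => show φ (el []) = el []; rw [el_nil, map_one]

end CfsgLib.SuzOut
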