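import Cfsg.Prelude.Def_KGroupFacts
import Cfsg.Agent.Eq.Def_KGroupFacts
import Cfsg.Agent.SuzOut.Rigid

/-!
`Out(Suz)` has order two: after an inner correction an automorphism fixes the normaliser of a
Sylow 11-subgroup, and then it is the identity or one explicit outer automorphism.
-/

set_option autoImplicit false
set_option maxRecDepth 100000

namespace CfsgLib.SuzOut

open CfsgLib.CosetEnum CfsgLib.CosetEnum.Suz

/-- the images of the letters -/
noncomputable def imgE (x : ℕ) : Cfsg.Spor.Suz := el (img x)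

theorem gword_imgE (w : List ℕ) : gword imgE w = el (ev img w) := by
  rw [el_ev]; rfl

theorem relators_hold : ∀ r ∈ Cfsg.Spor.coxRelators Cfsg.Spor.Suz.edges ∪
      {r | r ∈ Cfsg.Spor.Suz.extra},
    FreeGroup.lift (fun a => imgE (enc a)) r = 1 := by
  intro r hr
  have hinv : ∀ x < 7, (imgE x)⁻¹ = imgE x := fun x hx => by
    refine inv_eq_of_mul_eq_one_right ?_
    have hs := small_words.2.2.2.2.2.2.2.2.2.2.2.2 x hx
    have := (eqB_iff (smallW_append hs hs) (w := []) rfl).1
      ((Model.allBelow_iff _ _).1 relators_check.2 x hx)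
    rwa [el_append, el_nil] at this
  rw [rels_eq] at hr
  rw [map_eq_gword enc (fun y => y) (FreeGroup.lift fun a => imgE (enc a)) imgE
    (fun a => FreeGroup.lift_apply_of)
    (fun a => by rw [FreeGroup.lift_apply_of, hinv _ (enc_lt a)]) r]
  have h := List.all_eq_true.1 relators_check.1 _ (List.mem_map.2 ⟨r, hr, rfl⟩)
  rw [Bool.and_eq_true, List.all_eq_true] at h
  simp only [Nat.blt, Nat.ble_eq] at h
  have hsm : smallW (ev img (encWord enc (fun y => y) r)) = true :=
    smallW_flatten fun v hv => by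
      obtain ⟨x, hx, rfl⟩ := List.mem_map.1 hv
      exact small_words.2.2.2.2.2.2.2.2.2.2.2.2 x (h.1 x (List.mem_reverse.1 hx))
  rw [gword_imgE, (eqB_iff hsm rfl).1 h.2, el_nil]

/-- the outer endomorphism -/
noncomputable def sigmaHom : Cfsg.Spor.Suz →* Cfsg.Spor.Suz :=
  PresentedGroup.toGroup relators_hold

theorem sigmaHom_gen {x : ℕ} (hx : x < 7) : sigmaHom (gen x) = imgE x := by
  rw [gen, sigmaHom, PresentedGroup.toGroup.of]
  exact congrArg imgE (show enc (dec x) = x by interval_cases x <;> rfl)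

theorem sigmaHom_el {w : List ℕ} (hw : smallW w = true) :
    sigmaHom (el w) = el (w.map img).flatten := by
  induction w with
  | nil => rw [List.map_nil, List.flatten_nil, el_nil, map_one]
  | cons x w ih =>
    have h := smallW_iff.1 hw
    have hx := h x List.mem_cons_self
    rw [show x :: w = [x] ++ w from rfl, el_append, map_mul,
      ih (smallW_iff.2 fun y hy => h y (List.mem_cons_of_mem _ hy)), el_single hx, sigmaHom_gen hx,
      List.map_append, List.flatten_append, el_append, List.map_singleton, List.flatten_singleton]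
    rfl

theorem sigma_images : sigmaHom yE = yE ∧ sigmaHom kE = kE ∧ sigmaHom z1E = z1E ∧
    sigmaHom zE = zpE := by
  obtain ⟨h1, h2, h3, h4, h5, -, -, -, -, -, -, -, himg⟩ := small_words
  have hs : ∀ w, smallW w = true → smallW (w.map img).flatten = true := fun w hw =>
    smallW_flatten fun v hv => by
      obtain ⟨x, hx, rfl⟩ := List.mem_map.1 hv
      exact himg x (smallW_iff.1 hw x hx)
  refine ⟨?_, ?_, ?_, ?_⟩
  · rw [yE, sigmaHom_el h1]; exact (eqB_iff (hs _ h1) h1).1 image_check.1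
  · rw [kE, sigmaHom_el h2]; exact (eqB_iff (hs _ h2) h2).1 image_check.2.1
  · rw [z1E, sigmaHom_el h3]; exact (eqB_iff (hs _ h3) h3).1 image_check.2.2.1
  · rw [zE, sigmaHom_el h4]; exact (eqB_iff (hs _ h4) h5).1 image_check.2.2.2

theorem zp_ne : zE ≠ zpE := by
  intro h
  have := (eqB_iff small_words.2.2.2.1 small_words.2.2.2.2.1).2 h
  rw [commute_checks.2.2] at this
  exact Bool.noConfusion this

theorem sigmaHom_injective : Function.Injective sigmaHom := by
  haveI := CosetEnum.Suz.simple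
  refine (MonoidHom.ker_eq_bot_iff _).1 ?_
  refine (MonoidHom.normal_ker _).eq_bot_or_eq_top.resolve_right fun ht => y_ne_one ?_
  rw [← sigma_images.1]
  exact MonoidHom.mem_ker.1 (ht ▸ Subgroup.mem_top yE)

/-- the outer automorphism -/
noncomputable def sigma : MulAut Cfsg.Spor.Suz :=
  haveI := finite_suz
  MulEquiv.ofBijective sigmaHom (Finite.injective_iff_bijective.1 sigmaHom_injective)

theorem sigma_apply (g : Cfsg.Spor.Suz) : sigma g = sigmaHom g := rfl

/-- An endomorphism is determined on the letters by the images of `yE`, `kE`, `z1E`, `zE`. -/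
theorem map_gen (φ : Cfsg.Spor.Suz →* Cfsg.Spor.Suz) {c : List ℕ} (hc : smallW c = true)
    (hy : φ yE = yE) (hk : φ kE = kE) (hz1 : φ z1E = z1E) (hz : φ zE = el c) {x : ℕ}
    (hx : x < 7) : φ (gen x) = el (ev (fG c) (Data.genExp.getD x [])) := by
  have h := (Model.allBelow_iff _ _).1 gen_check x hx
  simp only [Bool.and_eq_true] at h
  have hsx : smallW [x] = true := smallW_iff.2 fun y hy => by rw [List.mem_singleton.1 hy]; exact hx
  rw [← el_single hx,
    ← (eqB_iff (smallW_ev (small_fG small_words.2.2.2.1) _) hsx).1 h.1.2, el_ev, el_ev,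
    map_list_prod, List.map_map]
  refine congrArg List.prod (List.map_congr_left fun i _ => ?_)
  show φ (el (fG Data.zw i)) = el (fG c i)
  match i with
  | 0 => exact hy
  | 1 =>
    show φ (el Data.yw.reverse) = el Data.yw.reverse
    rw [el_reverse, map_inv]; exact congrArg (·⁻¹) hy
  | 2 => exact hk
  | 3 =>
    show φ (el Data.kw.reverse) = el Data.kw.reverse
    rw [el_reverse, map_inv]; exact congrArg (·⁻¹) hk
  | 4 => exact hz1
  | 5 => exact hz
  | 6 =>
    show φ (el Data.zw.reverse) = el c.reverse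
    rw [el_reverse, el_reverse, map_inv]; exact congrArg (·⁻¹) hz
  | i + 7 => show φ (el []) = el []; rw [el_nil, map_one]

/-- An automorphism fixing `yE` and `kE` is the identity or `sigma`. -/
theorem fixed_two (a : MulAut Cfsg.Spor.Suz) (hy : a yE = yE) (hk : a kE = kE) :
    a = 1 ∨ a = sigma := by
  have hz1 := z1_fixed a.toMonoidHom hy hk
  have key : ∀ (b : MulAut Cfsg.Spor.Suz) (c : List ℕ), smallW c = true → b yE = yE → b kE = kE →
      b z1E = z1E → b zE = el c → a zE = el c → a = b := fun b c hc by_ bk bz1 bz az =>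
    MulEquiv.toMonoidHom_injective (PresentedGroup.ext fun g => by
      show a (PresentedGroup.of g) = b (PresentedGroup.of g)
      have ha := map_gen a.toMonoidHom hc hy hk hz1 az (enc_lt g)
      have hb := map_gen b.toMonoidHom hc by_ bk bz1 bz (enc_lt g)
      rw [gen, dec_enc] at ha hb
      exact ha.trans hb.symm)
  rcases z_image a.toMonoidHom hy hk with h | h
  · exact Or.inl (key 1 _ small_words.2.2.2.1 rfl rfl rfl rfl h)
  · exact Or.inr (key sigma _ small_words.2.2.2.2.1 sigma_images.1 sigma_images.2.1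
      sigma_images.2.2.1 sigma_images.2.2.2 h)

theorem card_dvd_check : ¬ 11 ∣ 40758681600 := by norm_num

/-- Every automorphism is inner or `sigma` up to an inner one. -/
theorem exists_conj_eq (a : MulAut Cfsg.Spor.Suz) :
    ∃ g, MulAut.conj g * a = 1 ∨ MulAut.conj g * a = sigma := by
  haveI := finite_suz
  haveI : Fact (Nat.Prime 11) := ⟨by norm_num⟩
  have hfac : (Nat.card Cfsg.Spor.Suz).factorization 11 = 1 := by
    rw [card_suz, show (448345497600 : ℕ) = 11 * 40758681600 by norm_num,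
      Nat.factorization_mul (by norm_num) (by norm_num), Finsupp.add_apply,
      Nat.Prime.factorization_self (by norm_num),
      Nat.factorization_eq_zero_of_not_dvd card_dvd_check]
  let P : Sylow 11 Cfsg.Spor.Suz := Sylow.ofCard (Subgroup.zpowers yE)
    (by rw [Nat.card_zpowers, orderOf_yE, hfac, pow_one])
  let Q : Sylow 11 Cfsg.Spor.Suz := Sylow.ofCard (Subgroup.zpowers (a yE))
    (by rw [Nat.card_zpowers, a.orderOf_eq, orderOf_yE, hfac, pow_one])
  obtain ⟨g, hg⟩ := MulAction.exists_smul_eq Cfsg.Spor.Suz Q P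
  have hmem : MulAut.conj g (a yE) ∈ Subgroup.zpowers yE := by
    have h : MulAut.conj g • a yE ∈ ((g • Q : Sylow 11 Cfsg.Spor.Suz) : Subgroup Cfsg.Spor.Suz) := by
      rw [Sylow.coe_subgroup_smul]
      exact Subgroup.smul_mem_pointwise_smul _ _ _
        (by simp only [Q, Sylow.coe_ofCard]; exact Subgroup.mem_zpowers (a yE))
    rw [hg] at h
    simpa [P] using h
  obtain ⟨r0, hr0⟩ := (Submonoid.mem_powers_iff _ _).1 (mem_powers_iff_mem_zpowers.2 hmem)
  have hr : yE ^ (r0 % 11) = MulAut.conj g (a yE) := by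
    rw [← hr0]
    conv_rhs => rw [← Nat.mod_add_div r0 11, pow_add, pow_mul, y_pow_eleven, one_pow, mul_one]
  have hr1 : 1 ≤ r0 % 11 := by
    by_contra h
    rw [show r0 % 11 = 0 by omega, pow_zero] at hr
    exact y_ne_one ((map_eq_one_iff a a.injective).1 ((map_eq_one_iff _ (MulAut.conj g).injective).1 hr.symm))
  obtain ⟨i, hi⟩ := k_pow_conj hr1 (by omega)
  let b : MulAut Cfsg.Spor.Suz := MulAut.conj (kE ^ i)⁻¹ * MulAut.conj g * a
  have hby : b yE = yE := by
    show MulAut.conj (kE ^ i)⁻¹ (MulAut.conj g (a yE)) = yE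
    rw [← hr, ← hi, MulAut.conj_apply]
    group
  have hcomm : Commute (kE⁻¹ * b kE) yE := by
    have e : b kE * yE * (b kE)⁻¹ = kE * yE * kE⁻¹ := by
      conv_rhs => rw [k_conj.1]
      conv_rhs => rw [← hby, ← map_pow, ← k_conj.1, map_mul, map_mul, map_inv, hby]
    calc kE⁻¹ * b kE * yE = kE⁻¹ * (b kE * yE * (b kE)⁻¹) * b kE := by group
      _ = kE⁻¹ * (kE * yE * kE⁻¹) * b kE := by rw [e]
      _ = yE * (kE⁻¹ * b kE) := by group
  obtain ⟨j, hj⟩ := centralizer_y hcomm
  have hbk : b kE = kE * yE ^ j := by rw [← hj, mul_inv_cancel_left]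
  let c : MulAut Cfsg.Spor.Suz := MulAut.conj (yE ^ (2 * j)) * b
  have hcy : c yE = yE := by
    show MulAut.conj (yE ^ (2 * j)) (b yE) = yE
    rw [hby, MulAut.conj_apply, (Commute.pow_self yE (2 * j)).eq, mul_inv_cancel_right]
  have hck : c kE = kE := by
    show MulAut.conj (yE ^ (2 * j)) (b kE) = kE
    have e : kE⁻¹ * yE ^ (2 * j) * kE = yE ^ (12 * j) := by
      rw [show kE⁻¹ * yE ^ (2 * j) * kE = (kE⁻¹ * yE * kE) ^ (2 * j) by
        rw [show kE⁻¹ * yE * kE = kE⁻¹ * yE * (kE⁻¹)⁻¹ by rw [inv_inv], conj_pow, inv_inv],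
        k_conj.2, ← pow_mul, show 6 * (2 * j) = 12 * j by ring]
    calc yE ^ (2 * j) * b kE * (yE ^ (2 * j))⁻¹
        = kE * ((kE⁻¹ * yE ^ (2 * j) * kE) * yE ^ j) * (yE ^ (2 * j))⁻¹ := by rw [hbk]; group
      _ = kE := by
        rw [e, ← pow_add, show 12 * j + j = 11 * j + 2 * j by ring, pow_add, pow_mul, y_pow_eleven,
          one_pow, one_mul, mul_inv_cancel_right]
  refine ⟨yE ^ (2 * j) * ((kE ^ i)⁻¹ * g), ?_⟩
  rw [map_mul, map_mul, mul_assoc, mul_assoc]
  rcases fixed_two c hcy hck with h | h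
  · left; rw [← h]; simp only [c, b, mul_assoc]
  · right; rw [← h]; simp only [c, b, mul_assoc]

theorem sigma_not_inner : sigma ∉ Cfsg.Inn Cfsg.Spor.Suz := by
  rintro ⟨h, hh⟩
  have key : ∀ g, sigmaHom g = h * g * h⁻¹ := fun g => by
    rw [← sigma_apply, ← hh]; rfl
  have hy : Commute h yE := by
    have := key yE
    rw [sigma_images.1] at this
    exact (mul_inv_eq_iff_eq_mul.1 this.symm)
  obtain ⟨e, rfl⟩ := centralizer_y hy
  have hk : kE⁻¹ * yE ^ e * kE = yE ^ e := by
    have h0 := key kE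
    rw [sigma_images.2.1] at h0
    calc kE⁻¹ * yE ^ e * kE = kE⁻¹ * (yE ^ e * kE * (yE ^ e)⁻¹) * yE ^ e := by group
      _ = yE ^ e := by rw [← h0, inv_mul_cancel, one_mul]
  rw [show kE⁻¹ * yE ^ e * kE = (kE⁻¹ * yE * kE) ^ e by
      rw [show kE⁻¹ * yE * kE = kE⁻¹ * yE * (kE⁻¹)⁻¹ by rw [inv_inv], conj_pow, inv_inv],
    k_conj.2, ← pow_mul, show 6 * e = 5 * e + e by ring, pow_add, mul_eq_right] at hk
  have he : yE ^ e = 1 := by
    have h1 : yE ^ (45 * e) = 1 := by
      rw [show 45 * e = 5 * e * 9 by ring, pow_mul, hk, one_pow]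
    rwa [show 45 * e = 11 * (4 * e) + e by ring, pow_add, pow_mul, y_pow_eleven, one_pow, one_mul] at h1
  have := key zE
  rw [sigma_images.2.2.2, he, inv_one, one_mul, mul_one] at this
  exact zp_ne this.symm

theorem card_out : Nat.card (Cfsg.Out Cfsg.Spor.Suz) = 2 := by
  haveI := finite_suz
  haveI : Finite (MulAut Cfsg.Spor.Suz) :=
    Finite.of_injective (fun a : MulAut Cfsg.Spor.Suz => (a : Cfsg.Spor.Suz → Cfsg.Spor.Suz))
      DFunLike.coe_injective
  rw [← Subgroup.index_eq_card]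
  have h0 : (Cfsg.Inn Cfsg.Spor.Suz).index ≠ 0 := Subgroup.index_ne_zero_of_finite
  have h1 : (Cfsg.Inn Cfsg.Spor.Suz).index ≠ 1 := fun h =>
    sigma_not_inner (Subgroup.index_eq_one.1 h ▸ Subgroup.mem_top sigma)
  have h2 : (Cfsg.Inn Cfsg.Spor.Suz).index ≤ 2 := by
    rw [Subgroup.index_eq_card]
    refine le_trans (Nat.card_le_card_of_surjective (fun t : Bool =>
      (QuotientGroup.mk (if t then sigma else 1) : MulAut Cfsg.Spor.Suz ⧸ Cfsg.Inn Cfsg.Spor.Suz)) ?_)
      (by simp)
    intro q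
    obtain ⟨a, rfl⟩ := QuotientGroup.mk_surjective q
    obtain ⟨g, hg⟩ := exists_conj_eq a
    have hN : (Cfsg.Inn Cfsg.Spor.Suz).Normal := inferInstance
    have mem : ∀ t : MulAut Cfsg.Spor.Suz, MulAut.conj g * a = t →
        (QuotientGroup.mk t : MulAut Cfsg.Spor.Suz ⧸ Cfsg.Inn Cfsg.Spor.Suz) = QuotientGroup.mk a := by
      intro t ht
      refine QuotientGroup.eq.2 ?_
      have e : t⁻¹ * a = a⁻¹ * (MulAut.conj g)⁻¹ * (a⁻¹)⁻¹ := by rw [← ht]; group
      rw [e]
      exact hN.conj_mem _ (inv_mem ⟨g, rfl⟩) _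
    rcases hg with h | h
    · exact ⟨false, by simpa using mem 1 h⟩
    · exact ⟨true, by simpa using mem sigma h⟩
  omega

end CfsgLib.SuzOut
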