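import Mathlib.Data.Nat.Notation
import Mathlib.Data.List.Basic

/-! Generated: words for the automorphisms of the presented group Suz. -/

set_option autoImplicit false
set_option maxRecDepth 100000

namespace CfsgLib.SuzOut.Data

/-- element of order eleven -/
def yw : List ℕ := [3, 4, 1, 5, 6, 2]

/-- normalising element of order ten -/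
def kw : List ℕ := [6, 0, 4, 1, 2, 0, 3, 0, 2, 0, 1, 5, 0, 1, 2, 3, 4, 1, 2, 3, 2, 1, 0, 6, 1, 2, 3, 4, 5, 6, 1, 0, 2, 3, 2, 1, 5, 6]

/-- involution commuting with `kw` -/
def z1w : List ℕ := [2, 3, 2, 1, 0, 2, 3, 2, 1, 0, 2, 4, 3, 2, 1, 0, 1, 2, 3, 4, 3, 2, 1, 0, 4, 3, 2, 1, 0, 1, 2, 3, 4, 3, 2, 1, 0, 3, 2, 1, 0, 3, 2, 1, 0, 3, 2, 1, 0, 3, 2, 1, 0, 3, 2, 1, 0, 4, 3, 2, 1, 0, 1, 2, 3, 4, 0, 3, 4, 5, 1, 0, 2, 1, 3, 2, 4, 3, 2, 1, 0, 1, 2, 6, 1, 0, 2, 3, 2, 1, 4, 3, 2, 6, 1]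

/-- element of order three -/
def zw : List ℕ := [3, 2, 1, 0, 3, 2, 1, 0, 3, 2, 1, 0, 2, 3, 2, 1, 0, 1, 3, 2, 1, 0, 2, 3, 2, 1, 0, 3, 2, 1, 0, 2, 3, 2, 1, 0, 3, 2, 1, 0, 2, 3, 2, 1, 0, 1, 3, 2, 1, 0, 3, 2, 1, 0, 4, 3, 2, 1, 0, 1, 2, 3, 4, 3, 2, 1, 0, 3, 2, 1, 0, 3, 2, 1, 0, 3, 2, 1, 0, 4, 3, 2, 1, 0, 1, 2, 3, 4, 3, 2, 1, 0, 4, 3, 2, 1, 0, 1, 2, 3, 4, 0, 1, 4, 3, 2, 1, 5, 1, 0, 2, 1, 3, 2, 4, 3, 2, 1, 0, 1, 2, 3, 6, 1, 2, 3, 2, 1, 0, 4, 3, 2, 5, 1, 0, 1, 6]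

/-- its image under the outer automorphism -/
def zpw : List ℕ := [2, 3, 2, 1, 0, 2, 3, 2, 1, 0, 3, 2, 1, 0, 2, 3, 2, 1, 0, 3, 2, 1, 0, 2, 3, 2, 1, 0, 2, 3, 2, 1, 0, 3, 2, 1, 0, 3, 2, 1, 0, 4, 3, 2, 1, 0, 1, 2, 3, 4, 3, 2, 1, 0, 3, 2, 1, 0, 3, 2, 1, 0, 3, 2, 1, 0, 4, 3, 2, 1, 0, 1, 2, 3, 4, 3, 2, 1, 0, 4, 3, 2, 1, 0, 1, 2, 3, 4, 0, 3, 4, 3, 2, 1, 0, 3, 2, 5, 1, 0, 2, 1, 3, 2, 1, 3, 4, 3, 2, 1, 0, 1, 6, 1, 2, 3, 2, 1, 0, 4, 3, 2, 3, 4, 5, 1, 0, 1]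

/-- conjugating word -/
def yConj : List ℕ := [3, 2, 1, 0, 3, 2, 1, 0, 3, 2, 1, 0, 2, 3, 2, 1, 0, 1, 2, 3, 2, 1, 0, 3, 2, 1, 0, 3, 2, 4, 3, 2, 3, 5, 1, 2, 3, 2, 1, 4, 3, 2, 1, 0, 1, 0, 6, 1, 0, 2, 1, 3, 2, 1, 4, 3, 2, 5, 1, 0, 2]

/-- conjugated word -/
def yFrame : List ℕ := [2, 3, 2, 1, 0, 2, 3, 2, 1, 0, 2, 4, 3, 2, 1, 0, 1, 2, 3, 4, 2, 3, 2, 1, 0, 2, 3, 2, 1, 0, 3, 2, 1, 0, 2, 3, 2, 1, 0, 2, 3, 2, 1, 0, 4, 3, 2, 1, 0, 1, 2, 3, 4, 3, 2, 1, 0, 4, 3, 2, 1, 0, 1, 2, 3, 4, 3, 2, 1, 0, 3, 4, 3, 2, 1, 5, 1, 0, 2, 1, 0, 3, 2, 4, 3, 2, 1, 5, 6, 1, 0, 1, 2, 3, 2, 1, 4, 3, 2, 1, 0, 1, 0]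

/-- search plan -/
def ySpec : List (Option (ℕ × ℕ)) := [none, some (0, 3), some (1, 2), some (1, 3), none, some (2, 4)]

/-- commuting elements -/
def yList : List (List ℕ) := [[],
  [3, 2, 1, 0, 3, 2, 1, 0, 3, 2, 1, 0, 2, 3, 2, 1, 0, 1, 2, 3, 2, 1, 0, 3, 2, 1, 0, 3, 2, 1, 0, 2, 3, 2, 1, 0, 1, 3, 2, 1, 0, 2, 3, 2, 1, 0, 3, 2, 1, 0, 2, 3, 2, 1, 0, 3, 2, 1, 0, 2, 3, 2, 1, 0, 1, 3, 2, 1, 0, 3, 2, 1, 0, 4, 3, 2, 1, 0, 1, 2, 3, 4, 3, 2, 1, 0, 3, 2, 1, 0, 3, 2, 1, 0, 4, 3, 2, 1, 3, 2, 4, 5, 1, 0, 2, 3, 2, 1, 4, 5, 6, 1, 2, 3, 2, 1, 6],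
  [3, 2, 1, 0, 3, 2, 1, 0, 3, 2, 1, 0, 3, 2, 4, 3, 2, 1, 0, 3, 2, 5, 1, 0, 2, 1, 3, 2, 1, 0, 1, 4, 5, 1, 6, 1, 0, 2, 3, 2, 1, 6],
  [5, 1, 2, 3, 2, 1, 5, 6, 1, 5, 2, 1, 0, 3, 4, 3, 2, 3, 6, 1, 0, 2, 1, 0, 1, 6, 1, 0],
  [5, 3, 2, 1, 6, 3, 4, 2, 3, 0, 1, 2, 3, 2, 1, 0, 1, 2, 3, 4, 3, 2, 1, 6, 1, 5, 1],
  [1, 5, 1, 6, 1, 2, 3, 4, 3, 2, 1, 0, 1, 2, 3, 2, 1, 0, 3, 2, 4, 3, 6, 1, 2, 3, 5],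
  [6, 1, 5, 6, 2, 1, 5, 2, 3, 2, 0, 1, 0, 6, 1, 2, 3, 2, 1, 3, 4, 3, 2, 5, 1, 2, 6, 1],
  [2, 3, 2, 1, 0, 2, 3, 2, 1, 0, 2, 4, 3, 2, 1, 0, 1, 2, 3, 4, 2, 3, 2, 1, 0, 2, 3, 2, 1, 0, 3, 2, 1, 0, 2, 3, 2, 1, 0, 2, 3, 2, 1, 0, 4, 3, 2, 1, 0, 1, 2, 3, 4, 3, 2, 1, 0, 4, 3, 2, 1, 0, 1, 2, 3, 4, 3, 2, 1, 0, 3, 4, 3, 2, 1, 5, 1, 0, 2, 1, 0, 3, 2, 4, 3, 2, 1, 5, 6, 1, 0, 1, 2, 3, 2, 1, 4, 3, 2, 1, 0, 1, 0],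
  [3, 2, 1, 0, 3, 2, 1, 0, 3, 2, 1, 0, 2, 3, 2, 1, 0, 1, 2, 4, 3, 2, 1, 0, 1, 2, 3, 4, 2, 3, 2, 1, 0, 2, 3, 2, 1, 0, 2, 4, 3, 2, 1, 0, 1, 2, 3, 4, 3, 2, 1, 0, 3, 2, 1, 0, 3, 2, 1, 0, 3, 2, 1, 0, 3, 2, 1, 0, 4, 3, 2, 1, 0, 1, 2, 3, 4, 0, 3, 4, 3, 2, 1, 3, 2, 3, 5, 1, 0, 2, 3, 2, 1, 4, 3, 2, 1, 5, 1, 6, 1, 2, 3, 2, 4, 3, 2, 1, 0, 1, 5, 1, 0, 1],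
  [3, 2, 1, 0, 3, 2, 1, 0, 3, 2, 1, 0, 2, 3, 2, 1, 0, 1, 2, 3, 2, 1, 0, 3, 2, 1, 0, 3, 2, 1, 0, 2, 3, 2, 1, 0, 1, 2, 4, 3, 2, 1, 0, 1, 2, 3, 4, 2, 3, 2, 1, 0, 2, 3, 2, 1, 0, 1, 4, 3, 2, 1, 0, 1, 2, 3, 4, 3, 2, 1, 0, 4, 3, 2, 1, 0, 1, 2, 3, 4, 3, 2, 1, 0, 4, 3, 2, 1, 0, 1, 2, 3, 4, 3, 2, 1, 0, 3, 2, 1, 0, 3, 4, 3, 2, 3, 5, 1, 0, 2, 1, 3, 2, 1, 3, 4, 3, 2, 1, 0, 5, 1, 6, 1, 0, 1, 2, 3, 2, 1, 4, 3, 2, 5, 6, 1, 0, 2],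
  [4, 3, 2, 1, 0, 1, 2, 3, 4, 2, 3, 2, 1, 0, 2, 3, 2, 1, 0, 3, 2, 1, 0, 2, 3, 2, 1, 0, 2, 3, 2, 1, 0, 4, 3, 2, 1, 0, 1, 2, 3, 4, 3, 2, 1, 0, 4, 3, 2, 1, 0, 1, 2, 3, 4, 3, 2, 1, 0, 3, 2, 1, 0, 4, 3, 2, 1, 0, 1, 2, 3, 4, 3, 2, 1, 0, 3, 2, 1, 0, 5, 1, 0, 2, 1, 3, 2, 1, 4, 3, 2, 5, 6, 1, 0, 2, 1, 3, 2, 1, 4, 3, 5, 1, 0, 2, 1, 0, 6]]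

/-- conjugating word -/
def kConj : List ℕ := [3, 2, 1, 0, 3, 2, 1, 0, 3, 2, 1, 0, 2, 3, 2, 1, 0, 1, 2, 3, 2, 1, 0, 3, 2, 1, 0, 3, 2, 1, 0, 2, 3, 2, 1, 0, 1, 3, 2, 1, 0, 2, 3, 2, 1, 0, 3, 2, 1, 0, 2, 3, 2, 1, 0, 1, 4, 3, 2, 1, 0, 1, 2, 3, 4, 3, 2, 1, 0, 3, 2, 1, 0, 3, 2, 1, 0, 3, 2, 1, 0, 4, 3, 2, 1, 0, 1, 2, 3, 4, 3, 2, 1, 0, 3, 2, 0, 1, 2, 4, 3, 5, 1, 0, 2, 3, 2, 1, 4, 3, 2, 3, 2, 6, 1, 0, 1, 2, 1, 3, 2, 1, 4, 5]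

/-- conjugated word -/
def kFrame : List ℕ := [3, 2, 1, 0, 3, 2, 1, 0, 3, 2, 1, 0, 2, 3, 2, 1, 0, 1, 2, 4, 3, 2, 1, 0, 1, 2, 3, 4, 2, 1, 0, 1, 2, 3, 2, 3, 2, 1, 0, 2, 3, 2, 1, 0, 2, 3, 2, 1, 0, 3, 2, 1, 0, 3, 2, 1, 0, 4, 3, 2, 1, 0, 1, 2, 3, 4, 3, 2, 1, 0, 3, 2, 1, 0, 4, 3, 2, 1, 0, 1, 2, 3, 4, 3, 2, 1, 0, 3, 5, 1, 0, 2, 3, 2, 1, 5, 6, 1, 0, 2, 3, 2, 1, 6]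

/-- search plan -/
def kSpec : List (Option (ℕ × ℕ)) := [none, some (0, 9), some (1, 9), some (2, 3), none, some (4, 6)]

/-- commuting elements -/
def kList : List (List ℕ) := [[],
  [3, 2, 1, 0, 3, 2, 1, 0, 3, 2, 1, 0, 2, 3, 2, 1, 0, 1, 3, 2, 1, 0, 2, 3, 2, 1, 0, 2, 3, 2, 1, 0, 3, 2, 1, 0, 3, 2, 1, 0, 4, 3, 2, 1, 0, 1, 2, 3, 4, 3, 2, 1, 0, 3, 2, 1, 0, 3, 4, 3, 2, 3, 2, 5, 1, 0, 2, 1, 3, 2, 1, 3, 4, 3, 2, 5, 6, 1, 2, 3, 2, 1, 6],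
  [3, 2, 1, 0, 3, 2, 1, 0, 3, 2, 1, 0, 2, 3, 2, 1, 0, 1, 2, 4, 3, 2, 1, 0, 1, 2, 3, 4, 2, 1, 0, 1, 2, 3, 2, 3, 2, 1, 0, 2, 3, 2, 1, 0, 2, 3, 2, 1, 0, 3, 2, 1, 0, 3, 2, 1, 0, 4, 3, 2, 1, 0, 1, 2, 3, 4, 3, 2, 1, 0, 3, 2, 1, 0, 4, 3, 2, 1, 0, 1, 2, 3, 4, 3, 2, 1, 0, 3, 5, 1, 0, 2, 3, 2, 1, 5, 6, 1, 0, 2, 3, 2, 1, 6],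
  [3, 2, 1, 0, 3, 2, 1, 0, 3, 2, 1, 0, 2, 3, 2, 1, 0, 1, 2, 3, 2, 1, 0, 3, 2, 1, 0, 3, 2, 1, 0, 2, 3, 2, 1, 0, 1, 2, 3, 2, 1, 0, 4, 3, 2, 1, 0, 1, 2, 3, 4, 3, 2, 1, 0, 3, 2, 1, 0, 3, 2, 1, 0, 3, 2, 1, 0, 4, 3, 2, 1, 0, 1, 2, 3, 4, 0, 1, 5, 1, 2, 3, 2, 1, 4, 3, 2, 1, 0, 3, 2, 4, 6, 1, 0, 2, 3, 2, 1, 0, 4, 5, 1],
  [3, 2, 1, 0, 3, 2, 1, 0, 3, 2, 1, 0, 2, 3, 2, 1, 0, 1, 3, 2, 1, 0, 2, 3, 2, 1, 0, 3, 2, 1, 0, 2, 3, 2, 1, 0, 2, 4, 3, 2, 1, 0, 1, 2, 3, 4, 3, 2, 1, 0, 4, 3, 2, 1, 0, 1, 2, 3, 4, 3, 2, 1, 0, 3, 2, 1, 0, 3, 2, 1, 0, 3, 2, 1, 0, 4, 3, 2, 1, 0, 1, 2, 3, 4, 3, 2, 1, 0, 3, 2, 1, 0, 4, 3, 2, 3, 5, 1, 0, 2, 3, 2, 1, 4, 3, 2,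 1, 3, 4, 6, 1, 2, 3, 2, 1, 4, 3, 2, 1, 5],
  [2, 1, 0, 1, 2, 3, 4, 3, 2, 1, 0, 1, 2, 3, 4, 2, 1, 0, 1, 2, 3, 2, 3, 2, 1, 0, 2, 3, 2, 1, 0, 2, 3, 2, 1, 0, 3, 2, 1, 0, 4, 3, 2, 1, 0, 1, 2, 3, 4, 0, 1, 0, 3, 4, 3, 5, 1, 2, 3, 2, 1, 0, 4, 3, 2, 3, 6, 1, 2, 3, 2, 1, 0, 4, 3, 2, 1, 0],
  [3, 2, 1, 0, 3, 2, 1, 0, 3, 2, 1, 0, 2, 3, 2, 1, 0, 1, 2, 3, 2, 1, 0, 3, 2, 1, 0, 3, 2, 1, 0, 2, 3, 2, 1, 0, 1, 2, 3, 2, 1, 0, 4, 3, 2, 1, 0, 1, 2, 3, 4, 3, 2, 1, 0, 4, 3, 2, 1, 0, 1, 2, 3, 4, 3, 2, 1, 0, 4, 3, 2, 1, 0, 1, 2, 3, 4, 3, 2, 1, 0, 3, 2, 1, 0, 3, 2, 1, 0, 4, 3, 2, 1, 0, 1, 2, 3, 4, 0, 1, 3, 4, 3, 2, 1, 0, 5, 1, 2, 3, 2, 4, 3, 2, 1, 0,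 1, 6, 1, 0, 1, 2, 3, 2, 1, 4, 3, 2, 1, 0, 5],
  [3, 2, 1, 0, 3, 2, 1, 0, 3, 2, 1, 0, 2, 3, 2, 1, 0, 1, 2, 3, 2, 1, 0, 3, 2, 1, 0, 3, 2, 1, 0, 2, 3, 2, 1, 0, 1, 3, 2, 1, 0, 2, 3, 2, 1, 0, 2, 4, 3, 2, 1, 0, 1, 2, 3, 4, 2, 1, 0, 1, 2, 3, 2, 3, 2, 1, 0, 2, 3, 2, 1, 0, 2, 3, 2, 1, 0, 4, 3, 2, 1, 0, 1, 2, 3, 4, 3, 2, 1, 0, 4, 3, 2, 1, 0, 1, 2, 3, 4, 3, 2, 1, 0, 3, 2, 1, 0, 4, 3, 2, 1, 0, 1, 2, 3, 4, 3, 2, 1, 0, 3, 2, 4, 3, 2, 1, 5, 1, 0, 2, 1, 3, 2, 4, 3, 2, 1, 0, 1, 2, 3, 6, 1, 2, 3, 2, 1, 4, 3, 2, 1, 0, 1, 3, 5],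
  [3, 2, 1, 0, 3, 2, 1, 0, 3, 2, 1, 0, 2, 3, 2, 1, 0, 1, 3, 2, 1, 0, 2, 3, 2, 1, 0, 1, 4, 3, 2, 1, 0, 1, 2, 3, 4, 3, 2, 1, 0, 4, 3, 2, 1, 0, 1, 2, 3, 4, 3, 2, 1, 0, 3, 2, 1, 0, 4, 3, 2, 1, 0, 1, 2, 3, 4, 3, 2, 1, 0, 4, 3, 2, 1, 0, 1, 2, 3, 4, 0, 1, 4, 3, 2, 1, 6, 1, 2, 3, 2, 1, 6, 5, 1, 2, 3, 2, 1, 5],
  [3, 2, 1, 0, 3, 2, 1, 0, 3, 2, 1, 0, 2, 3, 2, 1, 0, 1, 3, 2, 1, 0, 2, 3, 2, 1, 0, 2, 4, 3, 2, 1, 0, 1, 2, 3, 4, 2, 1, 4, 3, 2, 1, 0, 1, 2, 3, 4, 3, 2, 1, 0, 3, 2, 1, 0, 3, 2, 1, 0, 3, 2, 1, 0, 4, 3, 2, 1, 0, 1, 2, 3, 4, 3, 2, 1, 0, 3, 2, 1, 3, 4, 3, 5, 1, 2, 3, 2, 1, 0, 4, 3, 2, 1, 0, 1, 0, 3, 6, 1, 0, 1, 2, 3, 2, 1, 4, 3, 2,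 1, 6, 5, 1],
  [2, 3, 2, 1, 0, 2, 3, 2, 1, 0, 2, 3, 2, 1, 0, 3, 2, 1, 0, 3, 2, 1, 0, 4, 3, 2, 1, 0, 1, 2, 3, 4, 3, 2, 1, 0, 4, 3, 2, 1, 0, 1, 2, 3, 4, 3, 2, 1, 0, 3, 2, 1, 0, 3, 4, 3, 2, 3, 4, 5, 1, 0, 1, 0, 2, 1, 3, 4, 6, 1, 0, 1, 2, 3, 2, 4, 3, 2, 1, 5, 6, 1, 2],
  [3, 2, 1, 0, 3, 2, 1, 0, 3, 2, 1, 0, 2, 3, 2, 1, 0, 1, 2, 3, 2, 1, 0, 3, 2, 1, 0, 3, 2, 1, 0, 2, 3, 2, 1, 0, 1, 3, 2, 1, 0, 2, 3, 2, 1, 0, 3, 2, 1, 0, 2, 3, 2, 1, 0, 3, 2, 1, 0, 2, 3, 2, 1, 0, 2, 3, 2, 1, 0, 4, 3, 2, 1, 0, 1, 2, 3, 4, 3, 2, 1, 0, 4, 3, 2, 1, 0, 1, 2, 3, 4, 3, 2, 1, 0, 3, 2, 1, 0, 4, 3, 2, 1, 0, 1, 2, 3, 4, 0, 3, 5, 1, 2, 3, 2, 1, 0, 4, 3, 2, 1,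 5, 1, 6, 1, 0, 2, 3, 2, 1, 0, 4, 3, 2, 3, 4, 5, 1],
  [2, 1, 0, 1, 2, 3, 4, 3, 2, 1, 0, 1, 2, 3, 4, 2, 3, 2, 1, 0, 2, 3, 2, 1, 0, 2, 3, 2, 1, 0, 3, 2, 1, 0, 3, 2, 1, 3, 4, 3, 2, 5, 1, 0, 2, 1, 3, 2, 1, 3, 4, 3, 5, 6, 1, 0, 2, 3, 2, 1, 0, 4, 3, 2, 5, 1, 0, 2],
  [3, 2, 1, 0, 3, 2, 1, 0, 3, 2, 1, 0, 2, 3, 2, 1, 0, 1, 3, 2, 1, 0, 2, 3, 2, 1, 0, 3, 2, 1, 0, 2, 3, 2, 1, 0, 2, 4, 3, 2, 1, 0, 1, 2, 3, 4, 3, 2, 1, 0, 3, 2, 1, 0, 3, 2, 1, 0, 3, 2, 0, 1, 5, 1, 2, 3, 2, 6, 1, 0, 2, 3, 2, 1, 4, 3, 2, 3, 5, 6, 1, 5],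
  [2, 3, 2, 1, 0, 2, 3, 2, 1, 0, 3, 2, 1, 0, 2, 3, 2, 1, 0, 3, 2, 1, 0, 2, 3, 2, 1, 0, 1, 4, 3, 2, 1, 0, 1, 2, 3, 4, 3, 2, 1, 0, 3, 2, 1, 0, 3, 2, 1, 0, 3, 5, 1, 0, 2, 1, 3, 2, 1, 3, 4, 3, 2, 6, 1, 0, 1, 2, 1, 3, 2, 1, 4, 3, 2, 5, 1, 6, 5],
  [3, 2, 1, 0, 3, 2, 1, 0, 3, 2, 1, 0, 2, 3, 2, 1, 0, 1, 2, 3, 2, 1, 0, 3, 2, 1, 0, 3, 2, 1, 0, 2, 3, 2, 1, 0, 1, 3, 2, 1, 0, 2, 3, 2, 1, 0, 1, 0, 1, 2, 3, 4, 3, 2, 1, 0, 1, 2, 3, 4, 2, 3, 2, 1, 0, 2, 3, 2, 1, 0, 2, 3, 2, 1, 0, 4, 3, 2, 1, 0, 1, 2, 3, 4, 3, 2, 1, 0, 4, 3, 2, 1, 0, 1, 2, 3, 4, 3, 2, 1, 0, 4, 3, 2, 1, 0, 1, 2, 3, 4, 3, 2, 1, 0, 3, 2, 1, 0, 3, 2, 1, 0, 4, 3, 2, 1, 0, 1, 2, 3,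 5, 1, 6, 1, 0, 2, 1, 3, 2, 1, 4, 3, 2, 5, 1, 0, 1, 2],
  [3, 2, 1, 0, 3, 2, 1, 0, 3, 2, 1, 0, 2, 3, 2, 1, 0, 1, 2, 3, 2, 1, 0, 3, 2, 1, 0, 3, 2, 1, 0, 2, 3, 2, 1, 0, 1, 3, 2, 1, 0, 2, 3, 2, 1, 0, 2, 4, 3, 2, 1, 0, 1, 2, 3, 4, 2, 3, 2, 1, 0, 2, 3, 2, 1, 0, 3, 2, 1, 0, 2, 3, 2, 1, 0, 2, 3, 2, 1, 0, 4, 3, 2, 1, 0, 1, 2, 3, 4, 3, 2, 1, 0, 3, 2, 1, 0, 3, 2, 1, 0, 4, 3, 2, 1, 0, 1, 2, 3, 4, 3, 2, 1, 0, 4, 3, 2, 1, 0, 1, 2, 3, 4, 0, 1, 0, 3, 5, 1, 2, 3, 2, 1, 0, 4, 3, 2, 3, 4, 5, 6, 1, 0, 2, 1, 3, 2, 3, 4, 3, 2, 5, 1, 2, 3, 2],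
  [2, 3, 2, 1, 0, 2, 3, 2, 1, 0, 2, 4, 3, 2, 1, 0, 1, 2, 3, 4, 2, 3, 2, 1, 0, 2, 3, 2, 1, 0, 3, 2, 1, 0, 2, 3, 2, 1, 0, 2, 3, 2, 0, 4, 3, 2, 5, 1, 0, 2, 3, 2, 1, 4, 3, 2, 3, 2, 4, 5, 6, 1, 0, 2, 1, 3, 2, 4, 3, 2, 1, 6, 5, 1, 0, 2],
  [2, 3, 2, 1, 0, 2, 3, 2, 1, 0, 1, 0, 1, 2, 3, 4, 3, 2, 1, 0, 1, 2, 3, 4, 3, 2, 1, 0, 3, 2, 1, 0, 3, 2, 1, 0, 4, 3, 2, 1, 0, 1, 2, 3, 4, 3, 2, 1, 0, 3, 2, 1, 0, 3, 2, 1, 0, 3, 2, 1, 0, 4, 3, 2, 1, 0, 1, 2, 3, 4, 3, 2, 1, 0, 3, 5, 1, 0, 2, 1, 3, 2, 1, 0, 1, 5, 6, 1, 2, 3, 2, 1, 4, 3, 2, 1, 3, 4, 5, 1, 2, 3],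
  [3, 2, 1, 0, 3, 2, 1, 0, 3, 2, 1, 0, 2, 3, 2, 1, 0, 1, 3, 2, 1, 0, 2, 3, 2, 1, 0, 2, 4, 3, 2, 1, 0, 1, 2, 3, 4, 2, 1, 3, 2, 1, 0, 3, 2, 1, 0, 3, 2, 1, 0, 4, 3, 2, 1, 0, 1, 2, 3, 4, 3, 2, 1, 0, 4, 3, 2, 1, 0, 1, 2, 3, 4, 3, 2, 1, 4, 3, 2, 1, 0, 5, 1, 0, 2, 3, 2, 1, 4, 3, 2, 1, 3, 6, 1, 0, 1, 2, 3, 2, 4, 3, 2, 1, 0, 5, 1, 2, 3, 2]]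

/-- conjugating word -/
def uConj : List ℕ := [3, 2, 1, 0, 3, 2, 1, 0, 3, 2, 1, 0, 2, 3, 2, 1, 0, 1, 2, 3, 2, 1, 0, 3, 2, 1, 0, 3, 2, 1, 0, 2, 3, 2, 1, 0, 1, 2, 4, 3, 2, 1, 0, 1, 2, 3, 4, 2, 3, 2, 1, 0, 2, 3, 2, 1, 0, 3, 2, 1, 0, 2, 3, 2, 1, 0, 2, 3, 2, 1, 0, 4, 3, 2, 1, 0, 1, 2, 3, 4, 3, 2, 1, 0, 3, 2, 1, 0, 3, 2, 1, 0, 3, 2, 1, 0, 3, 2, 1, 0, 4, 3, 2, 1, 3, 5, 1, 0, 2, 1, 3, 2, 3, 4, 3, 2, 1, 0, 5, 6, 1, 0, 1, 2, 3, 2, 1, 4, 3, 2, 5]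

/-- conjugated word -/
def uFrame : List ℕ := [6, 3, 1, 2, 1, 0, 1, 5, 1, 6, 2, 3, 1, 2, 1, 3, 2, 4, 3, 2, 1, 0, 1, 3, 6, 5, 1, 2, 3, 6]

/-- search plan -/
def uSpec : List (Option (ℕ × ℕ)) := [none, some (0, 2), some (0, 10), some (1, 5), some (1, 2), none]

/-- commuting elements -/
def uList : List (List ℕ) := [[],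
  [1, 5, 2, 3, 1, 2, 1, 0, 1, 6, 3, 4, 2, 3, 2, 1, 3, 2, 4, 3, 2, 1, 0, 1, 0, 6, 1, 0],
  [2, 1, 0, 1, 2, 3, 4, 3, 2, 1, 0, 1, 2, 3, 4, 2, 3, 2, 1, 0, 2, 3, 2, 1, 0, 2, 3, 2, 1, 0, 4, 3, 2, 1, 0, 1, 2, 3, 4, 3, 2, 1, 0, 4, 3, 2, 1, 0, 1, 2, 3, 4, 3, 2, 1, 0, 4, 3, 2, 1, 0, 1, 2, 3, 4, 3, 2, 1, 0, 4, 3, 2, 1, 3, 2, 4, 3, 5, 1, 2, 3, 2, 1, 5, 6, 1, 2, 3, 2, 1, 6],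
  [3, 2, 1, 5, 0, 1, 2, 3, 4, 2, 3, 1, 0, 2, 5, 1, 2, 3, 2, 4, 6, 1, 0, 2, 3, 2, 5, 1],
  [3, 2, 3, 2, 1, 0, 1, 5, 1, 2, 3, 4, 2, 1, 3, 2, 6, 5, 1, 0, 2, 1, 3, 2, 1, 3, 6, 1, 0],
  [4, 3, 2, 1, 0, 1, 2, 3, 4, 2, 3, 2, 1, 0, 2, 3, 2, 1, 0, 2, 3, 5, 1, 0, 2, 1, 3, 2, 1, 0, 4, 3, 5, 1, 6, 1, 2, 3, 2, 1, 0, 6],
  [3, 2, 0, 1, 0, 1, 5, 1, 2, 3, 4, 2, 3, 2, 1, 4, 6, 1, 2, 3, 2, 1, 5, 1, 0, 1, 2, 1, 3, 6],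
  [2, 3, 2, 1, 0, 2, 3, 2, 1, 0, 2, 4, 3, 2, 1, 0, 1, 2, 3, 4, 2, 1, 0, 1, 2, 3, 2, 3, 2, 1, 0, 2, 3, 2, 1, 0, 2, 3, 2, 1, 0, 3, 2, 1, 0, 3, 2, 1, 0, 4, 3, 2, 1, 0, 1, 2, 3, 4, 0, 1, 4, 3, 2, 1, 3, 2, 3, 5, 1, 2, 3, 2, 1, 0, 4, 5, 6, 1, 2, 3, 2, 4, 3, 2, 5],
  [3, 2, 1, 0, 3, 2, 1, 0, 3, 2, 1, 0, 2, 3, 2, 1, 0, 1, 2, 3, 2, 1, 0, 3, 2, 1, 0, 3, 2, 1, 0, 2, 3, 2, 1, 0, 1, 3, 2, 1, 0, 2, 3, 2, 1, 0, 1, 0, 1, 2, 3, 4, 3, 2, 1, 0, 1, 2, 3, 4, 2, 3, 2, 1, 0, 2, 3, 2, 1, 0, 2, 3, 2, 1, 0, 3, 2, 1, 0, 3, 2, 1, 0, 4, 3, 2, 1, 0, 1, 2, 3, 4, 3, 2, 1, 0, 3, 2, 1, 0, 3, 2, 1, 0, 3, 2, 1, 0, 4, 3, 2, 1, 0, 1, 2, 3, 4, 0, 3, 4, 3, 2, 1, 0,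 5, 1, 0, 2, 1, 3, 2, 4, 3, 2, 1, 0, 1, 2, 6, 1, 0, 2, 1, 3, 2, 4, 3, 2, 5],
  [3, 2, 1, 0, 3, 2, 1, 0, 3, 2, 1, 0, 2, 3, 2, 1, 0, 1, 2, 3, 2, 1, 0, 3, 2, 1, 0, 3, 2, 1, 0, 2, 3, 2, 1, 0, 1, 2, 4, 3, 2, 1, 0, 1, 2, 3, 4, 3, 2, 1, 0, 3, 2, 1, 0, 3, 2, 1, 0, 4, 3, 2, 1, 0, 1, 2, 3, 4, 3, 2, 1, 0, 3, 2, 1, 0, 3, 2, 1, 0, 3, 2, 1, 0, 4, 3, 2, 1, 0, 1, 2, 3, 4, 0, 1, 0, 3, 4, 5, 1, 0, 2, 3, 2, 1, 4, 3, 2, 3, 5, 1, 6, 1, 2, 3, 2, 1, 0, 5, 1, 2, 3],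
  [3, 2, 1, 0, 3, 2, 1, 0, 3, 2, 1, 0, 2, 4, 3, 2, 1, 0, 1, 2, 3, 4, 2, 3, 2, 1, 0, 2, 3, 2, 1, 0, 2, 3, 2, 1, 0, 3, 2, 1, 0, 3, 2, 1, 0, 4, 3, 2, 1, 0, 1, 2, 3, 4, 3, 2, 1, 0, 3, 2, 1, 0, 4, 3, 2, 1, 0, 1, 2, 3, 4, 3, 4, 3, 2, 3, 5, 1, 2, 3, 2, 1, 0, 4, 3, 2, 3, 4, 5, 6, 1, 2, 3, 2, 1, 0, 4, 3, 2, 5, 1],
  [3, 2, 1, 0, 3, 2, 1, 0, 3, 2, 1, 0, 2, 4, 3, 2, 1, 0, 1, 2, 3, 4, 3, 2, 1, 0, 4, 3, 2, 1, 0, 1, 2, 3, 4, 3, 2, 1, 0, 3, 2, 1, 0, 3, 2, 1, 0, 4, 3, 2, 1, 0, 1, 2, 3, 4, 3, 2, 1, 0, 4, 3, 2, 1, 0, 1, 2, 3, 4, 0, 1, 4, 3, 2, 1, 5, 1, 0, 2, 1, 5, 6, 1, 2, 3, 2, 1, 0, 5, 1, 2, 3, 6],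
  [3, 2, 1, 0, 3, 2, 1, 0, 3, 2, 1, 0, 2, 3, 2, 1, 0, 1, 3, 2, 1, 0, 2, 3, 2, 1, 0, 3, 2, 1, 0, 2, 3, 2, 1, 0, 1, 3, 2, 1, 0, 3, 2, 1, 0, 4, 3, 2, 1, 0, 1, 2, 3, 4, 3, 2, 1, 0, 3, 2, 4, 3, 2, 1, 0, 3, 5, 1, 0, 2, 3, 2, 1, 0, 5, 6, 1, 2, 3, 2, 1, 6, 5, 1, 2, 3, 2],
  [3, 2, 1, 0, 3, 2, 1, 0, 3, 2, 1, 0, 2, 3, 2, 1, 0, 1, 3, 2, 1, 0, 2, 3, 2, 1, 0, 3, 2, 1, 0, 2, 3, 2, 1, 0, 1, 4, 3, 2, 1, 3, 2, 3, 5, 1, 0, 2, 1, 0, 1, 3, 6, 1, 0, 2, 1, 3, 2, 1, 3, 4, 3, 2, 3],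
  [2, 3, 2, 1, 0, 2, 3, 2, 1, 0, 2, 4, 3, 2, 1, 0, 1, 2, 3, 4, 3, 2, 1, 0, 4, 3, 2, 1, 0, 1, 2, 3, 4, 3, 2, 1, 0, 3, 2, 1, 0, 3, 2, 1, 0, 3, 2, 1, 0, 4, 3, 2, 1, 0, 1, 2, 3, 4, 3, 2, 1, 0, 3, 2, 1, 0, 4, 3, 2, 1, 0, 1, 2, 3, 4, 0, 1, 4, 3, 2, 1, 0, 3, 5, 1, 0, 2, 1, 3, 2, 1, 3, 4, 3, 6, 1, 0, 2, 3, 2, 1, 4, 3, 2, 5, 1, 0],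
  [3, 2, 1, 0, 3, 2, 1, 0, 3, 2, 1, 0, 2, 3, 2, 1, 0, 1, 2, 3, 2, 1, 0, 3, 2, 1, 0, 3, 2, 1, 0, 2, 3, 2, 1, 0, 1, 3, 2, 1, 0, 2, 3, 2, 1, 0, 3, 2, 1, 0, 2, 3, 2, 1, 0, 2, 4, 3, 2, 1, 0, 1, 2, 3, 4, 3, 2, 1, 0, 3, 2, 1, 0, 3, 2, 1, 0, 3, 2, 1, 0, 4, 3, 2, 1, 0, 1, 2, 3, 4, 0, 1, 0, 5, 1, 0, 2, 3, 2, 1, 4, 3, 2, 1, 0, 5, 6, 1, 2, 3, 2, 1, 4, 3, 2, 3, 4, 5, 1],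
  [4, 3, 2, 1, 0, 1, 2, 3, 4, 2, 3, 2, 1, 0, 2, 3, 2, 1, 0, 2, 3, 2, 1, 0, 4, 3, 2, 1, 0, 1, 2, 3, 4, 3, 2, 1, 0, 3, 2, 1, 0, 3, 2, 1, 0, 4, 3, 2, 1, 0, 1, 2, 3, 4, 3, 2, 1, 0, 4, 3, 2, 1, 0, 1, 3, 4, 5, 1, 0, 2, 1, 3, 2, 1, 3, 4, 3, 2, 1, 0, 5, 6, 1, 0, 1, 2, 1, 3, 2, 4, 3, 2, 5, 1, 2],
  [3, 2, 1, 0, 3, 2, 1, 0, 3, 2, 1, 0, 2, 3, 2, 1, 0, 1, 3, 2, 1, 0, 2, 3, 2, 1, 0, 2, 4, 3, 2, 1, 0, 1, 2, 3, 4, 2, 3, 2, 1, 0, 2, 3, 2, 1, 0, 1, 4, 3, 2, 1, 0, 1, 2, 3, 4, 3, 2, 1, 0, 3, 2, 1, 0, 3, 2, 1, 0, 4, 3, 2, 1, 0, 1, 2, 3, 4, 0, 1, 3, 4, 3, 2, 5, 1, 2, 3, 2, 1, 0, 4, 3, 2, 1, 3, 2, 4, 6, 1, 0, 1, 2, 3, 2, 1, 4, 3, 2, 5, 1, 0],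
  [3, 2, 1, 0, 3, 2, 1, 0, 3, 2, 1, 0, 2, 3, 2, 1, 0, 1, 2, 3, 2, 1, 0, 3, 2, 1, 0, 3, 2, 1, 0, 2, 3, 2, 1, 0, 1, 2, 4, 3, 2, 1, 0, 1, 2, 3, 4, 2, 3, 2, 1, 0, 2, 3, 2, 1, 0, 2, 3, 2, 1, 0, 3, 2, 1, 0, 3, 2, 1, 0, 3, 2, 1, 0, 3, 2, 1, 0, 3, 2, 1, 0, 4, 3, 2, 1, 0, 1, 2, 3, 4, 0, 1, 0, 4, 3, 2, 5, 1, 0, 2, 1, 3, 2, 3, 4, 3, 2, 1, 0, 1, 6, 1, 0, 2, 1, 3, 2, 4, 3, 5, 1, 2, 3, 2],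
  [2, 3, 2, 1, 0, 2, 3, 2, 1, 0, 1, 0, 1, 2, 3, 4, 3, 2, 1, 0, 1, 2, 3, 4, 2, 3, 2, 1, 0, 2, 3, 2, 1, 0, 2, 3, 2, 1, 0, 3, 2, 1, 0, 3, 2, 1, 0, 4, 3, 2, 1, 0, 1, 2, 3, 4, 3, 2, 1, 0, 4, 3, 2, 1, 0, 1, 2, 3, 4, 3, 2, 1, 0, 3, 2, 1, 0, 3, 4, 3, 2, 3, 5, 1, 2, 3, 2, 1, 0, 4, 3, 2, 5, 6, 1, 0, 2, 1, 3, 2, 4, 3, 5, 1, 2, 6, 5],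
  [3, 2, 1, 0, 3, 2, 1, 0, 3, 2, 1, 0, 2, 3, 2, 1, 0, 1, 2, 3, 2, 1, 0, 3, 2, 1, 0, 3, 2, 1, 0, 2, 3, 2, 1, 0, 1, 2, 4, 3, 2, 1, 0, 1, 2, 3, 4, 2, 1, 0, 1, 2, 3, 2, 3, 2, 1, 0, 2, 3, 2, 1, 0, 2, 4, 3, 2, 1, 0, 1, 2, 3, 4, 3, 2, 1, 0, 4, 3, 2, 1, 0, 1, 2, 3, 4, 3, 2, 1, 0, 3, 2, 1, 0, 3, 2, 1, 0, 3, 2, 1, 0, 4, 3, 2, 1, 0, 1, 2, 3, 4, 3, 2, 1, 0, 3, 2, 1, 4, 3, 2, 1, 0, 5, 1, 2, 3, 2, 1, 0, 4, 3, 2, 3, 6, 1, 0, 2, 3, 2, 1, 4, 3, 2, 1, 5, 1, 6],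
  [3, 2, 1, 0, 3, 2, 1, 0, 3, 2, 1, 0, 2, 3, 2, 1, 0, 1, 2, 3, 2, 1, 0, 3, 2, 1, 0, 3, 2, 1, 0, 2, 3, 2, 1, 0, 1, 3, 2, 1, 0, 2, 3, 2, 1, 0, 3, 2, 1, 0, 2, 3, 2, 1, 0, 2, 4, 3, 2, 1, 0, 1, 2, 3, 4, 2, 3, 2, 1, 0, 2, 3, 2, 1, 0, 2, 3, 2, 1, 0, 4, 3, 2, 1, 0, 1, 2, 3, 4, 3, 2, 1, 0, 3, 2, 1, 0, 3, 2, 1, 0, 3, 2, 1, 0, 3, 2, 1, 0, 3, 2, 0, 1, 2, 5, 1, 0, 1, 0, 2, 1, 6, 1, 2, 3, 2, 1, 6, 5, 1, 2, 3, 2, 1, 5],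
  [3, 2, 1, 0, 3, 2, 1, 0, 3, 2, 1, 0, 2, 3, 2, 1, 0, 1, 2, 3, 2, 1, 0, 4, 3, 2, 1, 0, 1, 2, 3, 4, 3, 2, 1, 0, 3, 2, 1, 0, 3, 2, 1, 0, 3, 2, 1, 0, 3, 2, 1, 0, 4, 3, 2, 1, 0, 1, 2, 3, 4, 3, 5, 1, 0, 2, 3, 2, 1, 4, 3, 2, 3, 2, 4, 6, 1, 0, 2, 1, 3, 2, 1, 3, 4, 3, 2, 3, 5, 6],
  [3, 2, 1, 0, 3, 2, 1, 0, 3, 2, 1, 0, 2, 3, 2, 1, 0, 1, 3, 2, 1, 0, 2, 3, 2, 1, 0, 3, 2, 1, 0, 2, 3, 2, 1, 0, 3, 2, 1, 0, 2, 3, 2, 1, 0, 2, 3, 2, 1, 0, 3, 2, 1, 0, 3, 2, 1, 0, 4, 3, 2, 1, 0, 1, 2, 3, 4, 3, 2, 1, 0, 3, 2, 1, 0, 4, 3, 2, 1, 0, 1, 2, 3, 4, 0, 1, 4, 3, 2, 1, 0, 1, 5, 1, 0, 2, 1, 0, 6, 1, 0, 2, 1, 3, 2, 1, 4, 3, 2, 1, 6, 5, 1],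
  [3, 2, 1, 0, 3, 2, 1, 0, 3, 2, 1, 0, 2, 4, 3, 2, 1, 0, 1, 2, 3, 4, 2, 1, 4, 3, 2, 1, 0, 1, 2, 3, 4, 3, 2, 1, 0, 3, 2, 1, 0, 3, 2, 1, 0, 3, 2, 1, 0, 3, 2, 1, 0, 3, 2, 1, 0, 4, 3, 2, 1, 0, 1, 2, 3, 5, 1, 0, 2, 1, 3, 2, 3, 4, 3, 2, 3, 6, 1, 0, 2, 1, 3, 2, 4, 3, 2, 1, 0, 5, 1, 6],
  [1, 5, 2, 3, 2, 0, 1, 6, 4, 2, 3, 2, 1, 0, 2, 3, 4, 5, 1, 2, 3, 2, 1, 0, 5, 1, 2, 3],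
  [6, 3, 1, 2, 1, 0, 1, 5, 1, 6, 2, 3, 1, 2, 1, 3, 2, 4, 3, 2, 1, 0, 1, 3, 6, 5, 1, 2, 3, 6],
  [0, 1, 6, 0, 1, 0, 1, 2, 3, 4, 2, 3, 1, 2, 3, 2, 4, 3, 6, 1, 0, 1, 2, 1, 3, 2, 5, 1],
  [3, 2, 1, 0, 3, 2, 1, 0, 3, 2, 1, 0, 2, 3, 2, 1, 0, 1, 2, 3, 2, 1, 0, 3, 2, 1, 0, 3, 2, 1, 0, 2, 3, 2, 1, 0, 1, 2, 4, 3, 2, 1, 0, 1, 2, 3, 4, 2, 1, 0, 1, 2, 3, 2, 3, 2, 1, 0, 2, 3, 2, 1, 0, 2, 3, 2, 1, 0, 4, 3, 2, 1, 0, 1, 2, 3, 4, 3, 2, 1, 0, 3, 2, 1, 0, 3, 2, 1, 0, 4, 3, 2, 1, 0, 1, 2, 3, 4, 3, 2, 1, 0, 3, 2, 1, 0, 4, 3, 2, 1, 3, 2, 5, 1, 2, 3, 2, 1, 0, 4, 3, 2, 3, 6, 1, 0, 2, 3, 2, 4, 3, 2, 1, 0, 5, 1, 0, 1, 2],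
  [3, 2, 1, 0, 3, 2, 1, 0, 3, 2, 1, 0, 2, 4, 3, 2, 1, 0, 1, 2, 3, 4, 3, 2, 1, 0, 4, 3, 2, 1, 0, 1, 2, 3, 4, 3, 2, 1, 0, 3, 2, 1, 0, 3, 2, 1, 0, 3, 2, 0, 1, 2, 4, 5, 1, 0, 2, 1, 3, 2, 4, 3, 2, 1, 0, 1, 2, 3, 6, 1, 2, 3, 2, 4, 3, 2, 1, 5, 1, 0, 1, 2, 3, 6],
  [3, 2, 1, 0, 3, 2, 1, 0, 3, 2, 1, 0, 2, 3, 2, 1, 0, 1, 3, 2, 1, 0, 2, 3, 2, 1, 0, 2, 4, 3, 2, 1, 0, 1, 2, 3, 4, 2, 1, 3, 2, 1, 0, 3, 2, 1, 0, 3, 2, 1, 0, 3, 2, 1, 0, 4, 3, 2, 1, 0, 1, 2, 3, 4, 0, 1, 0, 4, 3, 5, 1, 0, 2, 1, 3, 2, 1, 3, 4, 6, 1, 0, 2, 1, 3, 2, 1, 3, 4, 3, 2, 1, 3, 5, 1, 2],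
  [5, 2, 0, 1, 6, 5, 3, 1, 2, 3, 4, 1, 2, 0, 1, 2, 3, 2, 4, 6, 1, 0, 2, 5, 1, 2, 3, 2, 3],
  [2, 1, 4, 3, 2, 1, 0, 1, 2, 3, 4, 3, 2, 1, 0, 3, 2, 1, 0, 3, 2, 1, 0, 3, 2, 1, 0, 3, 2, 1, 0, 3, 2, 1, 0, 4, 3, 2, 1, 0, 1, 2, 3, 4, 3, 4, 3, 2, 3, 2, 5, 1, 2, 3, 2, 1, 4, 3, 2, 1, 0, 3, 2, 6, 1, 0, 2, 1, 3, 2, 1, 4, 3, 5, 1, 0, 2, 1, 5, 6],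
  [3, 2, 1, 0, 3, 2, 1, 0, 3, 2, 1, 0, 2, 3, 2, 1, 0, 1, 3, 2, 1, 0, 2, 3, 2, 1, 0, 2, 4, 3, 2, 1, 0, 1, 2, 3, 4, 2, 3, 2, 1, 0, 2, 3, 2, 1, 0, 2, 4, 3, 2, 1, 0, 1, 2, 3, 4, 3, 2, 1, 0, 4, 3, 2, 1, 0, 1, 2, 3, 4, 3, 2, 1, 0, 3, 2, 0, 3, 4, 3, 2, 5, 1, 0, 2, 3, 2, 1, 0, 4, 3, 2, 3, 5, 1, 6, 1, 0, 2, 1, 3, 2, 4, 3, 2, 6, 5, 1, 0, 2, 1, 6],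
  [3, 2, 1, 0, 3, 2, 1, 0, 3, 2, 1, 0, 2, 3, 2, 1, 0, 1, 3, 2, 1, 0, 2, 3, 2, 1, 0, 3, 2, 1, 0, 2, 3, 2, 1, 0, 3, 2, 1, 0, 2, 3, 2, 1, 0, 1, 3, 2, 1, 0, 3, 2, 1, 0, 3, 2, 1, 0, 3, 2, 1, 0, 3, 2, 1, 0, 4, 3, 2, 1, 0, 1, 2, 3, 4, 0, 1, 3, 4, 3, 2, 5, 1, 0, 2, 1, 0, 3, 6, 1, 2, 3, 2, 4, 3, 2, 1, 5, 1, 0, 1, 0, 2, 3, 4],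
  [2, 3, 2, 1, 0, 2, 3, 2, 1, 0, 3, 2, 1, 0, 2, 3, 2, 1, 0, 2, 4, 3, 2, 1, 0, 1, 2, 3, 4, 2, 3, 2, 1, 0, 2, 3, 2, 1, 0, 1, 4, 3, 2, 1, 0, 1, 2, 3, 4, 3, 2, 1, 0, 3, 2, 1, 0, 3, 2, 4, 3, 2, 5, 1, 2, 3, 2, 1, 4, 3, 2, 1, 3, 4, 5, 6, 1, 2, 3, 2, 4, 3, 2, 1, 5, 1, 0, 1, 2, 3, 2, 3]]

/-- exponents of the commuting elements -/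
def yExp : List ℕ := [0, 5, 6, 8, 2, 9, 3, 1, 10, 7, 4]

/-- separating relations -/
def kTests : List (List ℕ × ℕ) := [([0, 2], 12), ([2], 2), ([2], 2), ([0, 2], 12), ([2], 2), ([2], 2), ([2], 2), ([2], 2), ([2], 2), ([1, 2, 0], 8), ([2], 2), ([2], 2), ([2], 2), ([2], 2), ([], 0), ([2], 2), ([2], 2), ([2], 2), ([2], 2), ([2], 2)]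

/-- separating relations -/
def uTests : List (List ℕ × ℕ) := [([1, 3], 24), ([0, 3, 1], 12), ([3], 3), ([0, 3, 1], 12), ([3], 3), ([0, 3], 11), ([3], 3), ([3], 3), ([1, 3], 24), ([3], 3), ([3], 3), ([3], 3), ([3], 3), ([3], 3), ([3], 3), ([3], 3), ([3], 3), ([3], 3), ([1, 3], 24), ([3], 3), ([3], 3), ([3], 3), ([3, 2, 0], 21), ([3], 3), ([3], 3), ([], 0), ([3], 3), ([], 1), ([3], 3), ([3], 3), ([3], 3), ([3], 3), ([3], 3), ([3], 3), ([3], 3), ([3], 3)]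

/-- generators from the new symbols -/
def genExp : List (List ℕ) := [[0, 3, 6, 1, 5, 4, 0, 3, 0, 4, 1, 3, 4, 6, 0], [6, 4, 1, 1, 3, 1, 6, 4, 2, 1, 2, 4, 0, 6, 0, 3, 3], [5, 0, 0, 6, 3, 5, 1, 2, 1, 1, 6, 3, 5, 2, 0, 6], [1, 4, 2, 5, 0, 6, 3, 6, 3, 0, 4, 0, 3, 6, 0, 0, 4], [3, 0, 2, 6, 2, 1, 6, 4, 6, 1, 5, 3, 3, 3, 1, 5, 2], [5, 1, 1, 4, 5, 1, 4, 1, 4, 6, 1, 4, 0, 6], [3, 6, 4, 2, 1, 4, 2, 1, 4, 1, 2, 2, 4, 0, 5, 2]]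

/-- images under the outer automorphism -/
def genImage : List (List ℕ) := [[2, 1, 0, 1, 2, 3, 4, 3, 2, 1, 0, 1, 2, 3, 4, 2, 1, 0, 1, 2, 3, 2, 3, 2, 1, 0, 2, 3, 2, 1, 0, 2, 3, 2, 1, 0, 3, 2, 1, 0, 3, 2, 1, 0, 4, 3, 2, 1, 0, 1, 2, 3, 4, 3, 2, 1, 0, 3, 2, 1, 0, 3, 2, 1, 0, 3, 2, 1, 0, 4, 3, 2, 1, 0, 1, 2, 3, 4, 3, 4, 3, 2, 1, 3, 5, 1, 2, 3, 2, 4, 3, 2, 6, 1, 0, 2, 3, 2, 1, 4, 3, 2, 3, 2, 1, 4], [2, 3, 2, 1, 0, 2, 3, 2, 1, 0, 1, 0, 1, 2, 3, 4, 3, 2, 1, 0, 1, 2, 3, 4, 2, 3, 2, 1, 0, 2, 3, 2, 1, 0, 2, 3, 2, 1, 0, 4, 3, 2, 1, 0, 1, 2, 3, 4, 3, 2, 1, 0, 3, 2, 1, 0, 3, 2, 1, 0, 3, 2, 1, 0, 3, 2, 1, 0, 4, 3, 2, 1, 0, 1, 2, 3, 4, 0,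 3, 4, 3, 2, 1, 0, 3, 2, 1, 3, 5, 1, 0, 2, 1, 3, 2, 1, 0, 1, 4, 3, 2, 1, 3, 2, 6, 1, 2, 3, 2, 1, 4, 3, 2, 1, 0, 3], [4, 1, 2, 3, 2, 3, 4, 1, 2, 3, 2, 0, 1, 5, 1, 0, 2, 3, 2, 1, 4, 3, 2, 3, 2, 1, 4], [2, 3, 2, 1, 0, 2, 3, 2, 1, 0, 2, 4, 3, 2, 1, 0, 1, 2, 3, 4, 2, 1, 4, 3, 2, 1, 0, 1, 2, 3, 4, 3, 2, 1, 0, 4, 3, 2, 1, 0, 1, 2, 3, 4, 3, 2, 1, 0, 4, 3, 2, 1, 0, 1, 2, 3, 4, 3, 2, 1, 0, 3, 2, 1, 0, 3, 2, 1, 0, 4, 3, 2, 1, 0, 1, 2, 3, 4, 3, 4, 3, 2, 3, 4, 5, 1, 0, 1, 2, 3, 2, 4, 3, 6, 1, 0, 2, 1, 3, 2, 4, 3, 2, 1, 0, 1], [2, 3, 2, 1, 0, 2, 3, 2, 1, 0, 3, 2, 1, 0, 2, 3, 2, 1, 0, 2, 4, 3, 2, 1, 0, 1, 2, 3, 4, 3, 2, 1, 0, 4, 3, 2, 1, 0,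 1, 2, 3, 4, 3, 4, 5, 1, 0, 2, 3, 2, 4, 3, 2, 6, 1, 2, 3, 2, 1, 4, 3, 2, 5, 6, 1, 0, 1], [3, 2, 1, 0, 3, 2, 1, 0, 3, 2, 1, 0, 2, 3, 2, 1, 0, 1, 2, 3, 2, 1, 0, 3, 2, 1, 0, 3, 2, 1, 0, 2, 3, 2, 1, 0, 1, 3, 2, 1, 0, 2, 3, 2, 1, 0, 3, 2, 1, 0, 2, 3, 2, 1, 0, 2, 4, 3, 2, 1, 0, 1, 2, 3, 4, 3, 2, 1, 0, 4, 3, 2, 1, 0, 1, 2, 3, 4, 3, 2, 1, 0, 3, 2, 1, 0, 3, 2, 1, 0, 4, 3, 2, 1, 0, 1, 2, 3, 4, 3, 2, 1, 0, 4, 3, 2, 1, 0, 1, 2, 3, 4, 3, 4, 3, 2, 5, 1, 0, 2, 1, 3, 2, 1, 4, 6, 1, 0, 1, 2, 3, 2, 1, 4, 3, 2, 1, 3, 5, 6], [1, 6, 2, 3, 4, 3, 1, 2, 3, 2, 1, 5, 4, 0, 1, 2, 3, 2, 4, 3, 2, 1, 0, 5, 1, 2, 6, 5, 1, 6]]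

end CfsgLib.SuzOut.Data
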