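import Cfsg.Agent.SuzOut.Search
import Cfsg.Agent.SuzOut.Data

/-! Kernel checks: the backtrack for one centraliser, by ranges of the first image. -/

set_option autoImplicit false
set_option maxRecDepth 100000
set_option Elab.async false

namespace CfsgLib.SuzOut

open CfsgLib.CosetEnum

theorem partU0 : allFrom (branch (searchOK Data.uFrame Data.uList Data.uSpec.tail) 0 []) 0 297 = true := by
  decide +kernel

theorem partU1 : allFrom (branch (searchOK Data.uFrame Data.uList Data.uSpec.tail) 0 []) 297 297 = true := by
  decide +kernel

theorem partU2 : allFrom (branch (searchOK Data.uFrame Data.uList Data.uSpec.tail) 0 []) 594 297 = true := by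
  decide +kernel

theorem partU3 : allFrom (branch (searchOK Data.uFrame Data.uList Data.uSpec.tail) 0 []) 891 297 = true := by
  decide +kernel

theorem partU4 : allFrom (branch (searchOK Data.uFrame Data.uList Data.uSpec.tail) 0 []) 1188 297 = true := by
  decide +kernel

theorem partU5 : allFrom (branch (searchOK Data.uFrame Data.uList Data.uSpec.tail) 0 []) 1485 297 = true := by
  decide +kernel

theorem search_u : searchOK Data.uFrame Data.uList Data.uSpec 0 [] = true := by
  refine (Model.allBelow_iff _ _).2 fun q hq => ?_
  by_cases h0 : q < 297
  · exact (allFrom_get partU0 q (by omega) (by omega))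
  by_cases h1 : q < 594
  · exact (allFrom_get partU1 q (by omega) (by omega))
  by_cases h2 : q < 891
  · exact (allFrom_get partU2 q (by omega) (by omega))
  by_cases h3 : q < 1188
  · exact (allFrom_get partU3 q (by omega) (by omega))
  by_cases h4 : q < 1485
  · exact (allFrom_get partU4 q (by omega) (by omega))
  by_cases h5 : q < 1782
  · exact (allFrom_get partU5 q (by omega) (by omega))
  omega

end CfsgLib.SuzOut
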