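import Cfsg.Agent.SuzOut.Search
import Cfsg.Agent.SuzOut.SearchY
import Cfsg.Agent.SuzOut.SearchK
import Cfsg.Agent.SuzOut.SearchU
import Cfsg.Agent.SuzOut.Data

/-! Kernel checks for the automorphisms of Suz. -/

set_option autoImplicit false
set_option maxRecDepth 100000

set_option Elab.async false

namespace CfsgLib.SuzOut

open CfsgLib.CosetEnum CfsgLib.CosetEnum.Suz

/-- the word of a product of symbols -/
def ev (f : ℕ → List ℕ) (R : List ℕ) : List ℕ := (R.reverse.map f).flatten

/-- a repeated word -/
def pw (n : ℕ) (w : List ℕ) : List ℕ := (List.replicate n w).flatten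

/-- back from a frame -/
def back (g V : List ℕ) : List ℕ := g.reverse ++ V ++ g

/-- the element `u` of order twelve -/
def uw : List ℕ := Data.yw.reverse ++ Data.z1w

/-- symbols for the first test -/
def fK (c : List ℕ) (i : ℕ) : List ℕ := [Data.yw, Data.kw, c].getD i []

/-- symbols for the second test -/
def fU (c : List ℕ) (i : ℕ) : List ℕ := [Data.yw, Data.kw, Data.z1w, c].getD i []

/-- symbols generating the group -/
def fG (c : List ℕ) (i : ℕ) : List ℕ :=
  [Data.yw, Data.yw.reverse, Data.kw, Data.kw.reverse, Data.z1w, c, c.reverse].getD i []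

/-- images of the letters -/
def img (x : ℕ) : List ℕ := Data.genImage.getD x []

/-- a relation separating `c` from `ref` -/
noncomputable def separates (f : List ℕ → ℕ → List ℕ) (ref c R : List ℕ) (o : ℕ) : Bool :=
  eqB (pw o (ev (f ref) R)) [] && !(eqB (pw o (ev (f c) R)) [])

/-- the test of a commuting element of `kw` -/
noncomputable def kTest (i : ℕ) : Bool :=
  let c := back Data.kConj (Data.kList.getD i [])
  let t := Data.kTests.getD i ([], 0)
  smallW c && (bif t.1.isEmpty then eqB c Data.z1w else separates fK Data.z1w c t.1 t.2)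

/-- the test of a commuting element of `uw` -/
noncomputable def uTest (i : ℕ) : Bool :=
  let c := back Data.uConj (Data.uList.getD i [])
  let t := Data.uTests.getD i ([], 0)
  smallW c && (bif t.1.isEmpty then (eqB c Data.zw || eqB c Data.zpw)
    else separates fU Data.zw c t.1 t.2)

theorem small_all : ([Data.yw, Data.kw, Data.z1w, Data.zw, Data.zpw, Data.yConj, Data.kConj,
    Data.uConj, Data.yFrame, Data.kFrame, Data.uFrame].all smallW &&
    allBelow (fun x => smallW (img x)) 7 && Data.genExp.length == 7) = true := by
  decide +kernel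

theorem frames_check : eqB (Data.yFrame ++ Data.yConj) (Data.yConj ++ Data.yw) = true ∧
    eqB (Data.kFrame ++ Data.kConj) (Data.kConj ++ Data.kw) = true ∧
    eqB (Data.uFrame ++ Data.uConj) (Data.uConj ++ uw) = true ∧
    Data.ySpec.length = 6 ∧ Data.kSpec.length = 6 ∧ Data.uSpec.length = 6 := by
  decide +kernel


theorem y_list_check : allBelow (fun i =>
    smallW (back Data.yConj (Data.yList.getD i [])) &&
      eqB (back Data.yConj (Data.yList.getD i [])) (pw (Data.yExp.getD i 0) Data.yw)) 11 = true ∧
    Data.yList.length = 11 := by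
  decide +kernel

theorem k_list_check : allBelow kTest 20 = true ∧ Data.kList.length = 20 := by decide +kernel
theorem u_list_check : allBelow uTest 36 = true ∧ Data.uList.length = 36 := by decide +kernel

theorem y_facts : eqB (pw 11 Data.yw) [] = true ∧ eqB Data.yw [] = false ∧
    eqB (Data.kw.reverse ++ Data.yw ++ Data.kw) (pw 2 Data.yw) = true ∧
    eqB (Data.kw ++ Data.yw ++ Data.kw.reverse) (pw 6 Data.yw) = true ∧
    allBelow (fun r => (List.range 10).any fun i =>
      eqB (pw i Data.kw.reverse ++ Data.yw ++ pw i Data.kw) (pw (r + 1) Data.yw)) 10 = true := by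
  decide +kernel

theorem commute_checks : eqB (Data.z1w ++ Data.kw) (Data.kw ++ Data.z1w) = true ∧
    eqB (Data.zw ++ uw) (uw ++ Data.zw) = true ∧ eqB Data.zw Data.zpw = false := by
  decide +kernel

theorem gen_check : allBelow (fun x =>
    (Data.genExp.getD x []).all (fun i => i.blt 7) &&
      eqB (ev (fG Data.zw) (Data.genExp.getD x [])) [x] &&
      eqB (ev (fG Data.zpw) (Data.genExp.getD x [])) (img x)) 7 = true := by
  decide +kernel

theorem relators_check : (relList.map (encWord enc fun y => y)).all (fun w =>
    w.all (fun x => x.blt 7) && eqB (ev img w) []) = true ∧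
    allBelow (fun x => eqB (img x ++ img x) []) 7 = true := by
  decide +kernel

theorem image_check : eqB ((Data.yw.map img).flatten) Data.yw = true ∧
    eqB ((Data.kw.map img).flatten) Data.kw = true ∧
    eqB ((Data.z1w.map img).flatten) Data.z1w = true ∧
    eqB ((Data.zw.map img).flatten) Data.zpw = true := by
  decide +kernel

end CfsgLib.SuzOut
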