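import Cfsg.Agent.SuzOut.Words

/-!
A backtrack over the stabiliser chain listing the elements that commute with a given element.
-/

set_option autoImplicit false
set_option maxRecDepth 100000
set_option Elab.async false

namespace CfsgLib.SuzOut

open CfsgLib.CosetEnum CfsgLib.CosetEnum.Suz

theorem allFrom_get {f : ℕ → Bool} {a : ℕ} : ∀ {n : ℕ}, allFrom f a n = true →
    ∀ j, a ≤ j → j < a + n → f j = true
  | 0, _, j, h1, h2 => by omega
  | n + 1, h, j, h1, h2 => by
    rw [allFrom, Bool.and_eq_true] at h
    by_cases e : j = a + n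
    · rw [e]; exact h.1
    · exact allFrom_get h.2 j h1 (by omega)

/-- words moving a root to a point, read off parent tables -/
noncomputable def pathOf (S : List (List ℕ)) (opar ogen : ℕ → ℕ) (b : ℕ) (fuel : ℕ) : ℕ → List ℕ :=
  Nat.rec (motive := fun _ => ℕ → List ℕ) (fun _ => [])
    (fun _ go q => bif Nat.beq q b then [] else force (opar q) go ++ getW S (ogen q)) fuel

/-- transversal words by level -/
noncomputable def path : ℕ → ℕ → List ℕ
  | 0 => pathOf [[0], [1], [2], [3], [4], [5], [6]] (fun i => G24.par i / 64) (fun i => G24.par i % 64) 0 48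
  | 1 => pathOf Tab.wordsSix Tab.oparSix Tab.ogenSix 995 48
  | 2 => pathOf Tab.wordsFive Tab.oparFive Tab.ogenFive 47 48
  | 3 => pathOf Tab.wordsLv3 Tab.oparLv3 Tab.ogenLv3 72 48
  | 4 => pathOf Tab.wordsLv4 Tab.oparLv4 Tab.ogenLv4 76 48
  | _ => pathOf Tab.wordsLv5 Tab.oparLv5 Tab.ogenLv5 593 48

/-- the transversal word of a point of a class works -/
noncomputable def pathOK (l q : ℕ) : Bool :=
  !(Nat.beq (lab l q) (cls l)) || (smallW (path l q) && Nat.beq (run (path l q) (bn l)) q &&
    allBelow (fun i => Nat.beq (run (path l q) (bn i)) (bn i)) l)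

theorem paths0 : allBelow (pathOK 0) 1782 = true := by decide +kernel
theorem paths1 : allBelow (pathOK 1) 1782 = true := by decide +kernel
theorem paths2 : allBelow (pathOK 2) 1782 = true := by decide +kernel
theorem paths3 : allBelow (pathOK 3) 1782 = true := by decide +kernel
theorem paths4 : allBelow (pathOK 4) 1782 = true := by decide +kernel
theorem paths5 : allBelow (pathOK 5) 1782 = true := by decide +kernel

theorem path_spec {l : ℕ} (hl : l < 6) {q : Pt} (hq : lab l q = cls l) :
    smallW (path l q) = true ∧ pi (el (path l q)) (bp l) = q ∧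
      ∀ i < l, pi (el (path l q)) (bp i) = bp i := by
  have h : pathOK l q = true := by
    interval_cases l
    · exact (Model.allBelow_iff _ _).1 paths0 q q.2
    · exact (Model.allBelow_iff _ _).1 paths1 q q.2
    · exact (Model.allBelow_iff _ _).1 paths2 q q.2
    · exact (Model.allBelow_iff _ _).1 paths3 q q.2
    · exact (Model.allBelow_iff _ _).1 paths4 q q.2
    · exact (Model.allBelow_iff _ _).1 paths5 q q.2
  unfold pathOK at h
  rw [hq, Nat.beq_refl] at h
  simp only [Bool.not_true, Bool.false_or, Bool.and_eq_true, Model.allBelow_iff] at h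
  obtain ⟨⟨h1, h2⟩, h3⟩ := h
  refine ⟨h1, Fin.ext ?_, fun i hi => Fin.ext ?_⟩
  · rw [pi_el h1, bp_val hl]
    exact Nat.eq_of_beq_eq_true h2
  · rw [pi_el h1, bp_val (by omega)]
    exact Nat.eq_of_beq_eq_true (h3 i hi)

/-- iterated walk -/
noncomputable def runPow (hh : List ℕ) (d : ℕ) : ℕ → ℕ :=
  Nat.rec (motive := fun _ => ℕ → ℕ) (fun i => i) (fun _ go i => force (run hh i) go) d

theorem pi_el_pow {hh : List ℕ} (h : smallW hh = true) (d : ℕ) (i : Pt) :
    ((pi (el hh ^ d) i : Pt) : ℕ) = runPow hh d i := by
  induction d generalizing i with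
  | zero => rw [pow_zero, map_one, Equiv.Perm.one_apply]; rfl
  | succ d ih =>
    rw [pow_succ, map_mul, Equiv.Perm.mul_apply, ih, pi_el h]
    show runPow hh d (run hh i) = force (run hh i) (runPow hh d)
    rw [force_eq]

/-- one branch at level `l` -/
noncomputable def branch (go : ℕ → List ℕ → Bool) (l : ℕ) (W : List ℕ) (q : ℕ) : Bool :=
  !(Nat.beq (lab l q) (cls l)) || go (l + 1) (path l q ++ W)

/-- the backtrack: a step either lists the class or forces the point from an earlier base point -/
noncomputable def searchOK (hh : List ℕ) (L : List (List ℕ)) :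
    List (Option (ℕ × ℕ)) → ℕ → List ℕ → Bool
  | [], _, W => !(eqB (W ++ hh) (hh ++ W)) || L.any (fun V => smallW V && eqB W V)
  | none :: rest, l, W => allBelow (branch (searchOK hh L rest) l W) 1782
  | some (m, d) :: rest, l, W =>
      m.blt l && Nat.beq (runPow hh d (bn m)) (bn l) &&
        force (run W.reverse (runPow hh d (run W (bn m)))) (branch (searchOK hh L rest) l W)

theorem search_sound {hh : List ℕ} (hhs : smallW hh = true) {L : List (List ℕ)}
    {x : Cfsg.Spor.Suz} (hx : Commute x (el hh)) :
    ∀ (spec : List (Option (ℕ × ℕ))) (l : ℕ) (W : List ℕ), l + spec.length = 6 →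
      smallW W = true → searchOK hh L spec l W = true →
      (∀ i < l, pi x (bp i) = pi (el W) (bp i)) → ∃ V ∈ L, x = el V := by
  intro spec
  induction spec with
  | nil =>
    intro l W hl hW hok hpre
    have hxW : x = el W := eq_of_base fun i hi => hpre i (by simp at hl; omega)
    unfold searchOK at hok
    simp only [Bool.or_eq_true, Bool.not_eq_true', List.any_eq_true, Bool.and_eq_true] at hok
    rcases hok with h | ⟨V, hV, hVs, hVe⟩
    · rw [← Bool.not_eq_true, eqB_iff (smallW_append hW hhs) (smallW_append hhs hW), el_append,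
        el_append, ← hxW] at h
      exact absurd hx.eq.symm h
    · exact ⟨V, hV, hxW.trans ((eqB_iff hW hVs).1 hVe)⟩
  | cons e rest ih =>
    intro l W hl hW hok hpre
    simp only [List.length_cons] at hl
    have hl6 : l < 6 := by omega
    have hr : ∀ i < l, pi ((el W)⁻¹ * x) (bp i) = bp i := fun i hi => by
      rw [map_mul, map_inv, Equiv.Perm.mul_apply, Equiv.Perm.inv_eq_iff_eq, hpre i hi]
    set q : Pt := pi ((el W)⁻¹ * x) (bp l) with hq
    have hlab : lab l q = cls l := lab_of_fix hl6 hr
    obtain ⟨hp1, hp2, hp3⟩ := path_spec hl6 hlab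
    have hW' : smallW (path l q ++ W) = true := smallW_append hp1 hW
    have hpre' : ∀ i < l + 1, pi x (bp i) = pi (el (path l q ++ W)) (bp i) := by
      intro i hi
      rw [el_append, map_mul, Equiv.Perm.mul_apply]
      rcases Nat.lt_succ_iff_lt_or_eq.1 hi with h | rfl
      · rw [hp3 i h]; exact hpre i h
      · rw [hp2, hq, map_mul, map_inv, Equiv.Perm.mul_apply, Equiv.Perm.coe_inv,
          Equiv.apply_symm_apply]
    have hbranch : branch (searchOK hh L rest) l W q = true := by
      match e, hok with
      | none, hok =>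
        unfold searchOK at hok
        exact (Model.allBelow_iff _ _).1 hok q q.2
      | some (m, d), hok =>
        unfold searchOK at hok
        simp only [force_eq, Bool.and_eq_true, Nat.blt, Nat.ble_eq] at hok
        obtain ⟨⟨hm, hd⟩, hb⟩ := hok
        have hm' : m < l := hm
        have hb1 : pi (el hh ^ d) (bp m) = bp l := Fin.ext (by
          rw [pi_el_pow hhs, bp_val (by omega), bp_val hl6]; exact Nat.eq_of_beq_eq_true hd)
        have e1 : pi x (bp l) = pi (el hh ^ d) (pi x (bp m)) := by
          rw [← hb1, ← Equiv.Perm.mul_apply, ← Equiv.Perm.mul_apply, ← map_mul, ← map_mul,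
            (hx.pow_right d).eq]
        have e2 : (q : ℕ) = run W.reverse (runPow hh d (run W (bn m))) := by
          rw [hq, map_mul, Equiv.Perm.mul_apply, ← el_reverse, pi_el (smallW_reverse hW), e1,
            pi_el_pow hhs, hpre m hm', pi_el hW, bp_val (by omega)]
        rw [e2]; exact hb
    unfold branch at hbranch
    rw [hlab, Nat.beq_refl] at hbranch
    simp only [Bool.not_true, Bool.false_or] at hbranch
    exact ih (l + 1) (path l q ++ W) (by omega) hW' hbranch hpre'

/-- The list contains every element commuting with `el hh`. -/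
theorem mem_of_commute {hh : List ℕ} {L : List (List ℕ)} {spec : List (Option (ℕ × ℕ))}
    (hlen : spec.length = 6) (hhs : smallW hh = true) (hok : searchOK hh L spec 0 [] = true)
    {x : Cfsg.Spor.Suz} (hx : Commute x (el hh)) : ∃ V ∈ L, x = el V :=
  search_sound hhs hx spec 0 [] (by omega) rfl hok (fun i hi => absurd hi (Nat.not_lt_zero i))

end CfsgLib.SuzOut
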