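import Cfsg.Agent.CosetEnum.Suz.Simple

/-!
Words as elements of the presented group Suz, acting by `runT`, and the stabiliser chain on six
base points as a membership test.
-/

set_option autoImplicit false
set_option maxRecDepth 100000

namespace CfsgLib.SuzOut

open CfsgLib.CosetEnum CfsgLib.CosetEnum.Suz

/-- a point -/
abbrev Pt : Type := Fin Tab.perm.n

/-- pass a number on as a literal -/
noncomputable def force {α : Sort*} (n : ℕ) (k : ℕ → α) : α :=
  Nat.rec (motive := fun _ => α) (k 0) (fun m _ => k (m + 1)) n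

theorem force_eq {α : Sort*} (n : ℕ) (k : ℕ → α) : force n k = k n := by cases n <;> rfl

/-- the table walk, evaluated step by step -/
noncomputable def run (w : List ℕ) : ℕ → ℕ :=
  List.rec (motive := fun _ => ℕ → ℕ) (fun i => i)
    (fun x _ go i => force (G24.cert.T (7 * i + x)) go) w

theorem run_eq_runT (w : List ℕ) (i : ℕ) : run w i = runT Tab.perm.T Tab.perm.L w i := by
  induction w generalizing i with
  | nil => rfl
  | cons x w ih =>
    show force (G24.cert.T (7 * i + x)) (run w) = _
    rw [force_eq, ih, runT_cons]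
    rfl

/-- all letters are generators -/
def smallW (w : List ℕ) : Bool := w.all fun x => x.blt 7

theorem smallW_iff {w : List ℕ} : smallW w = true ↔ ∀ x ∈ w, x < 7 := by
  simp [smallW, Nat.blt]

theorem smallW_append {v w : List ℕ} (hv : smallW v = true) (hw : smallW w = true) :
    smallW (v ++ w) = true := by
  rw [smallW, List.all_append, Bool.and_eq_true]
  exact ⟨hv, hw⟩

theorem smallW_reverse {w : List ℕ} (hw : smallW w = true) : smallW w.reverse = true := by
  rw [smallW, List.all_reverse]; exact hw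

/-- the element acting as the walk of a word -/
noncomputable def el (w : List ℕ) : Cfsg.Spor.Suz := (gword (gl 7) w)⁻¹

theorem el_nil : el [] = 1 := by rw [el, gword_nil, inv_one]

theorem el_append (v w : List ℕ) : el (v ++ w) = el w * el v := by
  simp [el, gword, List.map_append, List.prod_append]

theorem el_reverse (w : List ℕ) : el w.reverse = (el w)⁻¹ := by
  have e := gword_inverse (gl 7) (fun y => y) (gl_inv 7) w
  rw [List.map_id'] at e
  rw [el, el, e]

theorem el_single {x : ℕ} (hx : x < 7) : el [x] = gen x := by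
  rw [el, gword_cons, gword_nil, mul_one, gl, letterVal_lt gen hx, gen_inv]

theorem pi_el {w : List ℕ} (hw : smallW w = true) (i : Pt) :
    ((pi (el w) i : Pt) : ℕ) = run w i := by
  have h7 := smallW_iff.1 hw
  have e : pi (gword (gl 7) w) = gword perm_ok.sigma w := by
    rw [gword_map]
    exact gword_congr _ _ fun x hx => by rw [gl, letterVal_lt gen (h7 x hx)]; exact pi_gen (h7 x hx)
  rw [el, map_inv, e, perm_ok.gword_inv_apply w h7, run_eq_runT]

/-! ### The base -/

/-- base point numbers -/
def bn (l : ℕ) : ℕ := [0, 995, 47, 72, 76, 593].getD l 0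

/-- class label of the next base point -/
def cls (l : ℕ) : ℕ := [0, 1, 2, 3, 4, 5].getD l 0

/-- orbit labels by level -/
noncomputable def lab : ℕ → ℕ → ℕ
  | 0 => fun _ => 0
  | 1 => Tab.labSix
  | 2 => Tab.labFive
  | 3 => Tab.labLv3
  | 4 => Tab.labLv4
  | _ => Tab.labLv5

/-- a base point -/
def bp (l : ℕ) : Pt := pt (bn l % 1782) (Nat.mod_lt _ (by norm_num))

theorem bp_val {l : ℕ} (hl : l < 6) : ((bp l : Pt) : ℕ) = bn l := by
  interval_cases l <;> rfl

/-- agreement on the base -/
noncomputable def eqB (v w : List ℕ) : Bool :=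
  allBelow (fun l => Nat.beq (run v (bn l)) (run w (bn l))) 6

theorem eq_of_base {a b : Cfsg.Spor.Suz} (h : ∀ l < 6, pi a (bp l) = pi b (bp l)) : a = b := by
  have h1 : pi (b⁻¹ * a) = 1 := by
    refine eq_one_of_fix ⟨_, rfl⟩ fun p hp => ?_
    obtain ⟨l, hl, rfl⟩ : ∃ l < 6, bp l = p := by
      simp only [List.mem_cons, List.not_mem_nil, or_false] at hp
      rcases hp with rfl | rfl | rfl | rfl | rfl | rfl
      · exact ⟨5, by norm_num, rfl⟩
      · exact ⟨4, by norm_num, rfl⟩
      · exact ⟨3, by norm_num, rfl⟩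
      · exact ⟨2, by norm_num, rfl⟩
      · exact ⟨1, by norm_num, rfl⟩
      · exact ⟨0, by norm_num, rfl⟩
    rw [map_mul, map_inv, Equiv.Perm.mul_apply, Equiv.Perm.inv_eq_iff_eq, h l hl]
  exact (inv_mul_eq_one.1 (pi_injective (h1.trans (map_one pi).symm))).symm

theorem eqB_iff {v w : List ℕ} (hv : smallW v = true) (hw : smallW w = true) :
    eqB v w = true ↔ el v = el w := by
  rw [eqB, Model.allBelow_iff]
  constructor
  · intro h
    refine eq_of_base fun l hl => Fin.ext ?_
    rw [pi_el hv, pi_el hw, bp_val hl]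
    exact Nat.eq_of_beq_eq_true (h l hl)
  · intro h l hl
    rw [← bp_val hl, ← pi_el hv, ← pi_el hw, h]
    exact Nat.beq_refl _

/-- the base so far, last one first -/
def pre : ℕ → List Pt
  | 0 => []
  | l + 1 => bp l :: pre l

theorem mem_pre {l : ℕ} {p : Pt} (h : p ∈ pre l) : ∃ i < l, bp i = p := by
  induction l with
  | zero => simp [pre] at h
  | succ l ih =>
    rcases List.mem_cons.1 h with rfl | h
    · exact ⟨l, by omega, rfl⟩
    · obtain ⟨i, hi, e⟩ := ih h
      exact ⟨i, by omega, e⟩

theorem tight {s n T m : ℕ} (hn : s ≤ n) (hm : T ≤ m) (h : n * m = s * T) (hs : 0 < s)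
    (hT : 0 < T) : n = s ∧ m = T := by
  have h1 : m = T := by
    by_contra hne
    have : s * T < n * m :=
      lt_of_lt_of_le (Nat.mul_lt_mul_of_pos_left (lt_of_le_of_ne hm (Ne.symm hne)) hs)
        (Nat.mul_le_mul_right _ hn)
    omega
  subst h1
  exact ⟨Nat.eq_of_mul_eq_mul_right hT h, rfl⟩

theorem level_eq {l c s T : ℕ} {K : Subgroup (Equiv.Perm Pt)} (hK : K ≤ pointStab pi.range (pre l))
    (horb : MulAction.orbit K (bp l) = {i : Pt | lab l i = c})
    (hs : (MulAction.orbit K (bp l)).ncard = s)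
    (hT : T ≤ Nat.card (pointStab pi.range (pre (l + 1))))
    (h : Nat.card (pointStab pi.range (pre l)) = s * T) (hsp : 0 < s) (hTp : 0 < T) :
    MulAction.orbit (pointStab pi.range (pre l)) (bp l) = {i : Pt | lab l i = c} ∧
      Nat.card (pointStab pi.range (pre (l + 1))) = T := by
  have hsub : MulAction.orbit K (bp l) ⊆ MulAction.orbit (pointStab pi.range (pre l)) (bp l) := by
    rintro _ ⟨⟨a, ha⟩, rfl⟩
    exact ⟨⟨a, hK ha⟩, rfl⟩
  have hn : s ≤ (MulAction.orbit (pointStab pi.range (pre l)) (bp l)).ncard :=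
    hs ▸ Set.ncard_le_ncard hsub (Set.toFinite _)
  have e : (MulAction.orbit (pointStab pi.range (pre l)) (bp l)).ncard *
      Nat.card (pointStab pi.range (pre (l + 1))) = s * T :=
    (card_pointStab_eq pi.range (pre l) (bp l)).trans h
  obtain ⟨h1, h2⟩ := tight hn hT e hsp hTp
  refine ⟨?_, h2⟩
  rw [← horb]
  exact (Set.eq_of_subset_of_ncard_le hsub (le_of_eq (h1.trans hs.symm)) (Set.toFinite _)).symm

theorem class_five : Tab.labLv5 593 = 5 := by decide +kernel
theorem class_four : Tab.labLv4 76 = 4 := by decide +kernel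
theorem class_three : Tab.labLv3 72 = 3 := by decide +kernel
theorem class_two : Tab.labFive 47 = 2 := by decide +kernel
theorem class_one : Tab.labSix 995 = 1 := by decide +kernel

theorem stab_orbits {l : ℕ} (hl : l < 6) :
    MulAction.orbit (pointStab pi.range (pre l)) (bp l) = {i : Pt | lab l i = cls l} := by
  have o1 : MulAction.orbit (cl Tab.wordsSix) (bp 1) = {i : Pt | lab 1 i = 1} :=
    (orbit_six _).trans (by rw [show Tab.labSix (bp 1 : Pt) = 1 from class_one]; rfl)
  have o2 : MulAction.orbit (cl Tab.wordsFive) (bp 2) = {i : Pt | lab 2 i = 2} :=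
    (orbit_five _).trans (by rw [show Tab.labFive (bp 2 : Pt) = 2 from class_two]; rfl)
  have o3 : MulAction.orbit (cl Tab.wordsLv3) (bp 3) = {i : Pt | lab 3 i = 3} :=
    (orbit_lv3 _).trans (by rw [show Tab.labLv3 (bp 3 : Pt) = 3 from class_three]; rfl)
  have o4 : MulAction.orbit (cl Tab.wordsLv4) (bp 4) = {i : Pt | lab 4 i = 4} :=
    (orbit_lv4 _).trans (by rw [show Tab.labLv4 (bp 4 : Pt) = 4 from class_four]; rfl)
  have o5 : MulAction.orbit (cl Tab.wordsLv5) (bp 5) = {i : Pt | lab 5 i = 5} :=
    (orbit_lv5 _).trans (by rw [show Tab.labLv5 (bp 5 : Pt) = 5 from class_five]; rfl)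
  have s1 : (MulAction.orbit (cl Tab.wordsSix) (bp 1)).ncard = 416 :=
    ncard_orbit_six class_one count_six1
  have s2 : (MulAction.orbit (cl Tab.wordsFive) (bp 2)).ncard = 100 :=
    ncard_orbit_five class_two count_five2
  have s3 : (MulAction.orbit (cl Tab.wordsLv3) (bp 3)).ncard = 63 :=
    ncard_orbit_lv3 class_three count_lv3_3
  have s4 : (MulAction.orbit (cl Tab.wordsLv4) (bp 4)).ncard = 32 :=
    ncard_orbit_lv4 class_four count_lv4
  have s5 : (MulAction.orbit (cl Tab.wordsLv5) (bp 5)).ncard = 3 :=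
    ncard_orbit_lv5 class_five count_lv5
  have t6 : 1 ≤ Nat.card (pointStab pi.range (pre 6)) := Nat.card_pos
  have t5 : 3 ≤ Nat.card (pointStab pi.range (pre 5)) := by
    have := card_pointStab_ge (pts := pre 5) (p := bp 5) lv5_le t6
    rwa [s5, mul_one] at this
  have t4 : 96 ≤ Nat.card (pointStab pi.range (pre 4)) := by
    have := card_pointStab_ge (pts := pre 4) (p := bp 4) lv4_le t5
    rwa [s4] at this
  have t3 : 6048 ≤ Nat.card (pointStab pi.range (pre 3)) := by
    have := card_pointStab_ge (pts := pre 3) (p := bp 3) lv3_le t4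
    rwa [s3] at this
  have t2 : 604800 ≤ Nat.card (pointStab pi.range (pre 2)) := by
    have := card_pointStab_ge (pts := pre 2) (p := bp 2) five_le t3
    rwa [s2] at this
  have t1 : 251596800 ≤ Nat.card (pointStab pi.range (pre 1)) := by
    have := card_pointStab_ge (pts := pre 1) (p := bp 1) six_le t2
    rwa [s1] at this
  have o0 : MulAction.orbit pi.range (bp 0) = {i : Pt | lab 0 i = 0} :=
    orbit_top.trans (Set.ext fun i => ⟨fun _ => rfl, fun _ => trivial⟩)
  have s0 : (MulAction.orbit pi.range (bp 0)).ncard = 1782 := by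
    rw [show MulAction.orbit pi.range (bp 0) = Set.univ from orbit_top, Set.ncard_univ, Nat.card_fin]
    rfl
  have e0 := level_eq (l := 0) (K := pi.range) le_rfl o0 s0 t1 card_range_eq (by norm_num) (by norm_num)
  have e1 := level_eq (l := 1) six_le o1 s1 t2 e0.2 (by norm_num) (by norm_num)
  have e2 := level_eq (l := 2) five_le o2 s2 t3 e1.2 (by norm_num) (by norm_num)
  have e3 := level_eq (l := 3) lv3_le o3 s3 t4 e2.2 (by norm_num) (by norm_num)
  have e4 := level_eq (l := 4) lv4_le o4 s4 t5 e3.2 (by norm_num) (by norm_num)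
  have e5 := level_eq (l := 5) lv5_le o5 s5 t6 e4.2 (by norm_num) (by norm_num)
  interval_cases l
  · exact e0.1
  · exact e1.1
  · exact e2.1
  · exact e3.1
  · exact e4.1
  · exact e5.1

/-- an element fixing the earlier base points keeps the class of the next one -/
theorem lab_of_fix {l : ℕ} (hl : l < 6) {r : Cfsg.Spor.Suz}
    (h : ∀ i < l, pi r (bp i) = bp i) : lab l (pi r (bp l) : Pt) = cls l := by
  have hmem : pi r (bp l) ∈ MulAction.orbit (pointStab pi.range (pre l)) (bp l) :=
    ⟨⟨pi r, mem_pointStab.2 ⟨⟨r, rfl⟩, fun p hp => by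
      obtain ⟨i, hi, rfl⟩ := mem_pre hp
      exact h i hi⟩⟩, rfl⟩
  rw [stab_orbits hl] at hmem
  exact hmem

end CfsgLib.SuzOut
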